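import Cfsg.Agent.Lib.Components.Signalizer.Balance
import Cfsg.Agent.Lib.LocalEven.BenderTransitive.PrimeCores
import Cfsg.Agent.Lib.Fusion.PSolvable

/-!
# Groups in which every two elements generate a solvable subgroup: local lemmas

`Hyp G` describes a hypothetical minimal counterexample: a non-abelian simple group with all
proper subgroups solvable and all two-generated subgroups solvable. The basic observation is that
no non-identity element `d` can satisfy, for every `p'`-element `g`, that `d` lies in a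
`p'`-subgroup normalised by `g`.
-/

set_option autoImplicit false
set_option linter.style.haveILetI false
set_option linter.unusedSectionVars false

namespace CfsgLib.Recognition.TwoGenSolvable

open Subgroup CfsgLib.Solvable

variable {G : Type*} [Group G] [Finite G]

/-- A hypothetical minimal counterexample. -/
structure Hyp (G : Type*) [Group G] : Prop where
  simple : IsSimpleGroup G
  notSolvable : ¬ Group.IsSolvable G
  proper : ∀ H : Subgroup G, H ≠ ⊤ → Group.IsSolvable H
  pair : ∀ a b : G, Group.IsSolvable (Subgroup.closure ({a, b} : Set G))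


theorem Hyp.ne_top_of_solvable (h : Hyp G) {H : Subgroup G} (hH : Group.IsSolvable H) : H ≠ ⊤ := by
  rintro rfl
  haveI := hH
  exact h.notSolvable (Group.isSolvable_of_surjective (f := (⊤ : Subgroup G).subtype)
    fun g => ⟨⟨g, trivial⟩, rfl⟩)


theorem Hyp.normal_eq (h : Hyp G) (N : Subgroup G) [hN : N.Normal] : N = ⊥ ∨ N = ⊤ :=
  h.simple.eq_bot_or_eq_top_of_normal N hN


theorem Hyp.normalizer_ne_top (h : Hyp G) {H : Subgroup G} (hb : H ≠ ⊥) (ht : H ≠ ⊤) :
    normalizer (H : Set G) ≠ ⊤ := fun e => by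
  haveI : H.Normal := normalizer_eq_top_iff.mp e
  exact (h.normal_eq H).elim hb ht


theorem Hyp.centralizer_ne_top (h : Hyp G) {x : G} (hx : x ≠ 1) :
    centralizer ({x} : Set G) ≠ ⊤ := fun e => by
  have hc : x ∈ center G := mem_center_iff.mpr fun g =>
    mem_centralizer_singleton_iff.mp (e ▸ mem_top g)
  rcases h.normal_eq (center G) with hb | ht
  · exact hx (by rwa [hb, mem_bot] at hc)
  · exact h.notSolvable (Group.isSolvable_of_comm fun a b => by
      exact (mem_center_iff.mp (ht ▸ mem_top b) a))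

theorem Hyp.exists_coatom (h : Hyp G) {H : Subgroup G} (hH : Group.IsSolvable H) :
    ∃ M : Subgroup G, IsCoatom M ∧ H ≤ M := by
  rcases eq_top_or_exists_le_coatom H with e | e
  · exact absurd e (h.ne_top_of_solvable hH)
  · exact e

/-- The products of an element of a normal `p'`-subgroup with a `p'`-element are `p'`-elements. -/
theorem not_dvd_orderOf_mul {p : ℕ} [hp : Fact p.Prime] {N : Subgroup G} {d g : G} (hd : d ∈ N)
    (hg : g ∈ normalizer (N : Set G)) (hN : ¬ p ∣ Nat.card N) (hgp : ¬ p ∣ orderOf g) :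
    ¬ p ∣ orderOf (d * g) := by
  have hk : ∀ k : ℕ, (d * g) ^ k * (g ^ k)⁻¹ ∈ N := by
    intro k
    induction k with
    | zero => simp [N.one_mem]
    | succ k ih =>
      have h1 := N.mul_mem hd ((mem_normalizer_iff.mp hg _).mp ih)
      have e : (d * g) ^ (k + 1) * (g ^ (k + 1))⁻¹
          = d * (g * ((d * g) ^ k * (g ^ k)⁻¹) * g⁻¹) := by
        rw [pow_succ' (d * g) k, pow_succ' g k]; group
      exact e ▸ h1
  have hmem : (d * g) ^ orderOf g ∈ N := by simpa [pow_orderOf_eq_one] using hk (orderOf g)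
  intro hdv
  have h2 : orderOf (d * g) ∣ orderOf g * Nat.card N := by
    refine orderOf_dvd_of_pow_eq_one ?_
    rw [pow_mul]
    exact congrArg Subtype.val (pow_card_eq_one' (x := (⟨_, hmem⟩ : N)))
  rcases hp.out.dvd_mul.mp (hdv.trans h2) with e | e
  · exact hgp e
  · exact hN e

/-- The basic observation. -/
theorem Hyp.eq_one_of_core (h : Hyp G) {p : ℕ} [hp : Fact p.Prime] (hpG : p ∣ Nat.card G) {d : G}
    (hd : ∀ g : G, ¬ p ∣ orderOf g →
      ∃ N : Subgroup G, d ∈ N ∧ g ∈ normalizer (N : Set G) ∧ ¬ p ∣ Nat.card N) : d = 1 := by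
  classical
  set S : Set G := {g | ¬ p ∣ orderOf g} with hS
  let K : Submonoid G :=
    { carrier := {c | ∀ g ∈ S, c * g ∈ S}
      one_mem' := fun g hg => by simpa using hg
      mul_mem' := fun {a b} ha hb g hg => by
        rw [mul_assoc]; exact ha _ (hb g hg) }
  let K' : Subgroup G :=
    { K with
      inv_mem' := fun {a} ha => by
        rw [show a⁻¹ = a ^ (orderOf a - 1) from inv_eq_of_mul_eq_one_right (by
          rw [← pow_succ', Nat.sub_add_cancel (orderOf_pos a), pow_orderOf_eq_one])]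
        exact pow_mem (S := K) ha _ }
  have hord : ∀ a b : G, orderOf (b * a * b⁻¹) = orderOf a := fun a b =>
    orderOf_injective (MulAut.conj b).toMonoidHom (MulAut.conj b).injective a
  haveI : K'.Normal := ⟨fun c hc b g hg => by
    have h1 : b⁻¹ * g * b ∈ S := by
      have := hord g b⁻¹
      rw [inv_inv] at this
      simpa [hS, this] using hg
    have h2 := hc _ h1
    have e : b * c * b⁻¹ * g = b * (c * (b⁻¹ * g * b)) * b⁻¹ := by group
    show ¬ p ∣ orderOf (b * c * b⁻¹ * g)
    rw [e, hord]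
    exact h2⟩
  have hdK : d ∈ K' := fun g hg => by
    obtain ⟨N, hdN, hgN, hN⟩ := hd g hg
    exact not_dvd_orderOf_mul hdN hgN hN hg
  rcases h.normal_eq K' with e | e
  · exact mem_bot.mp (e ▸ hdK)
  · exfalso
    obtain ⟨y, hy⟩ := exists_prime_orderOf_dvd_card' p hpG
    have h1 : (1 : G) ∈ S := by simp [hS, hp.out.ne_one]
    have h2 : y * 1 ∈ S := (e ▸ mem_top y : y ∈ K') 1 h1
    rw [mul_one] at h2
    exact h2 (by rw [hy])


theorem not_dvd_card_of_coprime {p n : ℕ} [hp : Fact p.Prime] (h : n.Coprime p) : ¬ p ∣ n :=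
  fun hd => hp.out.coprime_iff_not_dvd.mp h.symm hd


theorem normalizer_le_normalizer_core [Finite G] {p : ℕ} (C : Subgroup G) :
    normalizer (C : Set G) ≤
      normalizer (((Cfsg.pPrimeCore p C).map C.subtype : Subgroup G) : Set G) := by
  haveI : (C.subgroupOf (normalizer (C : Set G))).Normal := Subgroup.normal_in_normalizer
  intro n hn
  refine mem_normalizer_iff_map_conj_eq.mpr (Subgroup.eq_of_le_of_card_ge ?_
    (card_map_of_injective (MulAut.conj n).injective).ge)
  rintro _ ⟨_, ⟨c, hc, rfl⟩, rfl⟩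
  have h1 := (Subgroup.characteristic_iff_map_eq.mp inferInstance
    (((Subgroup.normalizerMonoidHom C) ⟨n, hn⟩))).le (mem_map_of_mem _ hc)
  exact ⟨_, h1, rfl⟩

/-- In a solvable subgroup `H`, a `p'`-subgroup `W` centralising the `p`-subgroup `Q` and
normalised by its normaliser lies in `O_{p'}(H)`. -/
theorem le_primeCore {p : ℕ} [hp : Fact p.Prime] {H Q W : Subgroup G} (hH : Group.IsSolvable H)
    (hQH : Q ≤ H) (hWH : W ≤ H) (hQ : IsPGroup p Q) (hW : ¬ p ∣ Nat.card W)
    (hWQ : W ≤ normalizer (Q : Set G))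
    (hN : H ⊓ normalizer (Q : Set G) ≤ normalizer (W : Set G)) :
    W ≤ (Cfsg.pPrimeCore p H).map H.subtype := by
  haveI := hH
  set Q' := Q.subgroupOf H with hQ'
  set W' := W.subgroupOf H with hW'
  set N := normalizer (Q' : Set H) with hN'
  have hWN : W' ≤ N := fun w hw => by
    rw [hN', hQ', ← subgroupOf_normalizer_eq hQH]
    exact hWQ hw
  have hNW : N ≤ normalizer (W' : Set H) := fun n hn => by
    rw [hW', ← subgroupOf_normalizer_eq hWH]
    rw [hN', hQ', ← subgroupOf_normalizer_eq hQH] at hn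
    exact hN ⟨n.2, hn⟩
  haveI : (W'.subgroupOf N).Normal := (normal_subgroupOf_iff_le_normalizer hWN).mpr hNW
  have hcard : (Nat.card (W'.subgroupOf N)).Coprime p := by
    rw [Nat.card_congr (subgroupOfEquivOfLe hWN).toEquiv, hW',
      Nat.card_congr (subgroupOfEquivOfLe hWH).toEquiv]
    exact (hp.out.coprime_iff_not_dvd.mpr hW).symm
  have h1 : (W'.subgroupOf N).map N.subtype ≤ Cfsg.pPrimeCore p H :=
    (map_mono (Cores.le_pPrimeCore hcard)).trans
      (Components.normalizer_of_pLayer_eq_bot Components.Signalizer.pLayer_eq_bot_of_isSolvable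
        (hQ.of_equiv (subgroupOfEquivOfLe hQH).symm)).2
  rw [map_subgroupOf_eq_of_le hWN] at h1
  have h2 := map_mono (f := H.subtype) h1
  rwa [map_subgroupOf_eq_of_le hWH] at h2


theorem not_dvd_card_primeCore [Finite G] {p : ℕ} [Fact p.Prime] (H : Subgroup G) :
    ¬ p ∣ Nat.card ((Cfsg.pPrimeCore p H).map H.subtype) :=
  not_dvd_card_of_coprime ((Cores.coprime_card_pPrimeCore p).coprime_dvd_left (card_map_dvd _ _))


theorem mem_normalizer_primeCore {p : ℕ} {H : Subgroup G} {g : G} (hg : g ∈ H) :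
    g ∈ normalizer (((Cfsg.pPrimeCore p H).map H.subtype : Subgroup G) : Set G) := by
  have : (⟨g, hg⟩ : H) ∈ normalizer ((Cfsg.pPrimeCore p H) : Set H) := by
    rw [normalizer_eq_top]; trivial
  exact le_normalizer_map H.subtype ⟨_, this, rfl⟩

/-- For a `p`-element `x`, a `p'`-subgroup normal in its centraliser is trivial. -/
theorem Hyp.eq_bot_of_centralizer (h : Hyp G) {p : ℕ} [hp : Fact p.Prime] (hpG : p ∣ Nat.card G)
    {x : G} {k : ℕ} (hx : x ^ p ^ k = 1) {W : Subgroup G} (hW : ¬ p ∣ Nat.card W)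
    (hWC : W ≤ centralizer ({x} : Set G))
    (hCW : normalizer (zpowers x : Set G) ≤ normalizer (W : Set G)) : W = ⊥ := by
  refine (eq_bot_iff_forall W).mpr fun d hd => h.eq_one_of_core hpG fun g _ => ?_
  set H := closure ({x * d, g} : Set G) with hH
  have hxd : Commute x d := (mem_centralizer_singleton_iff.mp (hWC hd)).symm
  have hcop : (p ^ k).Coprime (orderOf d) :=
    (Nat.Coprime.pow_left k (hp.out.coprime_iff_not_dvd.mpr fun e =>
      hW (e.trans (Nat.card_zpowers d ▸ card_dvd_of_le (zpowers_le.mpr hd)))))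
  have hyH : x * d ∈ H := subset_closure (Set.mem_insert _ _)
  have hdH : d ∈ H := by
    obtain ⟨m, hm⟩ := exists_pow_eq_self_of_coprime hcop
    rw [← hm]
    refine H.pow_mem ?_ m
    have e : (x * d) ^ p ^ k = d ^ p ^ k := by rw [hxd.mul_pow, hx, one_mul]
    exact e ▸ H.pow_mem hyH _
  have hxH : x ∈ H := by
    have := H.mul_mem hyH (H.inv_mem hdH)
    rwa [mul_inv_cancel_right] at this
  have hZ : IsPGroup p (zpowers x) := by
    obtain ⟨i, -, hi⟩ := (Nat.dvd_prime_pow hp.out).mp (orderOf_dvd_of_pow_eq_one hx)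
    exact IsPGroup.of_card (n := i) (by rw [Nat.card_zpowers, hi])
  have hCZ : centralizer ({x} : Set G) ≤ normalizer (zpowers x : Set G) := by
    rw [← centralizer_closure, ← zpowers_eq_closure]
    exact centralizer_le_normalizer _
  have hle : W ⊓ H ≤ (Cfsg.pPrimeCore p H).map H.subtype := by
    refine le_primeCore (h.pair _ _) (zpowers_le.mpr hxH) inf_le_right hZ
      (fun e => hW (e.trans (card_dvd_of_le inf_le_left))) (inf_le_left.trans (hWC.trans hCZ)) ?_
    intro n hn
    refine mem_normalizer_iff.mpr fun y => ?_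
    simp only [mem_inf]
    rw [← mem_normalizer_iff.mp (hCW hn.2) y, ← mem_normalizer_iff.mp (le_normalizer hn.1) y]
  exact ⟨_, hle ⟨hd, hdH⟩, mem_normalizer_primeCore (subset_closure (by simp)),
    not_dvd_card_primeCore H⟩

/-- All centralisers of `p`-elements have trivial `p'`-core. -/
theorem Hyp.primeCore_centralizer (h : Hyp G) {p : ℕ} [hp : Fact p.Prime] (hpG : p ∣ Nat.card G)
    {x : G} {k : ℕ} (hx : x ^ p ^ k = 1) :
    Cfsg.pPrimeCore p (centralizer ({x} : Set G)) = ⊥ := by
  set C := centralizer ({x} : Set G) with hC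
  refine (Subgroup.map_eq_bot_iff_of_injective _ C.subtype_injective).mp ?_
  refine h.eq_bot_of_centralizer hpG hx (not_dvd_card_primeCore C) (map_subtype_le _) ?_
  intro n hn
  have hnC : ∀ c ∈ C, n * c * n⁻¹ ∈ C := fun c hc => by
    rw [hC, ← centralizer_closure, ← zpowers_eq_closure] at hc ⊢
    refine mem_centralizer_iff.mpr fun y hy => ?_
    have h1 : n⁻¹ * y * n ∈ zpowers x := by
      simpa using (mem_normalizer_iff.mp (inv_mem hn) y).mp hy
    have h2 := mem_centralizer_iff.mp hc _ h1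
    calc y * (n * c * n⁻¹) = n * (n⁻¹ * y * n * c) * n⁻¹ := by group
      _ = n * (c * (n⁻¹ * y * n)) * n⁻¹ := by rw [h2]
      _ = n * c * n⁻¹ * y := by group
  have hnN : n ∈ normalizer (C : Set G) := by
    refine mem_normalizer_iff_map_conj_eq.mpr (Subgroup.eq_of_le_of_card_ge ?_ ?_)
    · rintro _ ⟨c, hc, rfl⟩; exact hnC c hc
    · rw [card_map_of_injective (MulAut.conj n).injective]
  exact normalizer_le_normalizer_core C hnN

theorem commutes_of_disjoint_normalized {A B : Subgroup G} (hd : A ⊓ B = ⊥)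
    (hA : B ≤ normalizer (A : Set G)) (hB : A ≤ normalizer (B : Set G)) :
    A ≤ centralizer (B : Set G) := by
  intro a ha
  refine mem_centralizer_iff.mpr fun b hb => ?_
  have h1 : b * a * b⁻¹ * a⁻¹ ∈ A ⊓ B := by
    refine ⟨A.mul_mem ((mem_normalizer_iff.mp (hA hb) a).mp ha) (A.inv_mem ha), ?_⟩
    have := B.mul_mem hb ((mem_normalizer_iff.mp (hB ha) b⁻¹).mp (B.inv_mem hb))
    simpa [mul_assoc] using this
  rw [hd, mem_bot, mul_inv_eq_one, mul_inv_eq_iff_eq_mul] at h1
  exact h1

/-- The `p'`-core of a `p`-local subgroup is trivial. -/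
theorem Hyp.primeCore_normalizer (h : Hyp G) {p : ℕ} [hp : Fact p.Prime] {Q : Subgroup G}
    (hQ : IsPGroup p Q) (hne : Q ≠ ⊥) :
    Cfsg.pPrimeCore p (normalizer (Q : Set G)) = ⊥ := by
  set N := normalizer (Q : Set G) with hN
  haveI : Nontrivial Q := (nontrivial_iff_ne_bot Q).mpr hne
  haveI := hQ.center_nontrivial
  obtain ⟨⟨⟨x, hxQ⟩, hxc⟩, hx1⟩ := exists_ne (1 : center Q)
  have hx1' : x ≠ 1 := fun e => hx1 (Subtype.ext (Subtype.ext e))
  set C := centralizer ({x} : Set G) with hC
  have hQC : Q ≤ C := fun y hy => mem_centralizer_singleton_iff.mpr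
    (congrArg Subtype.val (mem_center_iff.mp hxc ⟨y, hy⟩))
  set W := (Cfsg.pPrimeCore p N).map N.subtype with hW
  have hWN : W ≤ N := map_subtype_le _
  have hQW : Q ⊓ W = ⊥ := Components.inf_eq_bot_of_pGroup_coprime hQ
    ((Cores.coprime_card_pPrimeCore p).coprime_dvd_left (card_map_dvd _ _))
  have hWc : W ≤ centralizer (Q : Set G) := commutes_of_disjoint_normalized (inf_comm W Q ▸ hQW)
    (fun y hy => mem_normalizer_primeCore (le_normalizer hy)) hWN
  have hWC : W ≤ C := fun w hw => mem_centralizer_singleton_iff.mpr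
    (mem_centralizer_iff.mp (hWc hw) x hxQ).symm
  have hle := le_primeCore (h.proper C (h.centralizer_ne_top hx1')) hQC hWC hQ
    (not_dvd_card_primeCore N) hWN (fun n hn => mem_normalizer_primeCore hn.2)
  obtain ⟨k, hk⟩ := hQ ⟨x, hxQ⟩
  have hp' : p ∣ Nat.card G := by
    obtain ⟨n, hn⟩ := hQ.exists_card_eq
    refine (dvd_pow_self p (fun e => hne (card_eq_one.mp ?_) : n ≠ 0)).trans
      (hn ▸ card_subgroup_dvd_card Q)
    rw [hn, e, pow_zero]
  have hk' : x ^ p ^ k = 1 := by simpa using congrArg Subtype.val hk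
  rw [h.primeCore_centralizer hp' hk', Subgroup.map_bot, le_bot_iff,
    Subgroup.map_eq_bot_iff_of_injective _ N.subtype_injective] at hle
  exact hle

/-- `p`-local subgroups have characteristic `p`. -/
theorem Hyp.centralizer_pCore_local (h : Hyp G) {p : ℕ} [hp : Fact p.Prime] {Q : Subgroup G}
    (hQ : IsPGroup p Q) (hne : Q ≠ ⊥) (hQtop : Q ≠ ⊤) :
    centralizer (Cfsg.pCore p (normalizer (Q : Set G)) : Set (normalizer (Q : Set G))) ≤
      Cfsg.pCore p (normalizer (Q : Set G)) := by
  haveI := h.proper _ (h.normalizer_ne_top hne hQtop)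
  exact LocalEven.BenderTransitive.centralizer_pCore_le p (h.primeCore_normalizer hQ hne)

theorem Hyp.isPGroup_ne_top (h : Hyp G) {p : ℕ} [hp : Fact p.Prime] {Q : Subgroup G}
    (hQ : IsPGroup p Q) : Q ≠ ⊤ := by
  refine h.ne_top_of_solvable ?_
  haveI := hQ.isNilpotent
  infer_instance

/-- A counterexample is not abelian. -/
theorem Hyp.noncomm (h : Hyp G) : ¬ IsMulCommutative G := fun e =>
  h.notSolvable (Group.isSolvable_of_comm fun a b => e.is_comm.comm a b)

end CfsgLib.Recognition.TwoGenSolvable
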