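import Cfsg.Agent.Lib.Recognition.TwoGenSolvable.StronglyEmbedded

/-!
# The lines in a coset of an elementary subgroup of order `p²`

For `A = ⟨a, b⟩` in `M = phi P` and `x` of order `p` outside `M`, the set of `p'`-elements of
`A x` would meet every line through `x` once and contain every line through two of its points.
-/

set_option autoImplicit false
set_option linter.style.haveILetI false
set_option linter.unusedSectionVars false

namespace CfsgLib.Recognition.TwoGenSolvable

open Subgroup CfsgLib.Solvable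

variable {G : Type*} [Group G] [Finite G] {p : ℕ} [hp : Fact p.Prime]

theorem mem_core_of_pair (h : Hyp G) (hp5 : 5 ≤ p) (P : Sylow p G) {a w : G} (ha : a ^ p = 1)
    (ha1 : a ≠ 1) (haM : a ∈ phi P) (hwM : w ∉ phi P) (hw : p ∣ orderOf w) :
    (∀ i j : ℕ, ¬ p ∣ orderOf (a ^ i * w) → ¬ p ∣ orderOf (a ^ j * w) → a ^ i = a ^ j) ∧
      (w ^ p = 1 → ∃ i : ℕ, ¬ p ∣ orderOf (a ^ i * w)) := by
  set L := closure ({a, w} : Set G) with hL
  haveI : Group.IsSolvable L := h.pair a w
  have haL : a ∈ L := subset_closure (Set.mem_insert _ _)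
  have hwL : w ∈ L := subset_closure (by simp)
  have hc : CyclicP p L := cyclicP_of_not_le h hp5 P (h.ne_top_of_solvable (h.pair a w))
    (k := 1) (by rw [pow_one, ha]) ha1 haL haM fun e => hwM (e hwL)
  set π := QuotientGroup.mk' (Cfsg.pPrimeCore p L) with hπ
  set Q := Cfsg.pCore p (L ⧸ Cfsg.pPrimeCore p L) with hQ
  have hker : ∀ l : L, π l = 1 → ¬ p ∣ orderOf (l : G) := fun l hl hd => by
    rw [Subgroup.orderOf_coe, ← Nat.card_zpowers] at hd
    exact not_dvd_card_of_coprime (Cores.coprime_card_pPrimeCore p)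
      (hd.trans (card_dvd_of_le (zpowers_le.mpr ((QuotientGroup.eq_one_iff l).mp hl))))
  have haQ : π ⟨a, haL⟩ ∈ Q := p_element_mem hc (k := 1) (Subtype.ext (by simpa using ha))
  have hwQ : π ⟨w, hwL⟩ ∈ Q := by
    obtain ⟨n, m, hm, he⟩ :=
      Nat.exists_eq_pow_mul_and_not_dvd (orderOf_pos w).ne' p hp.out.ne_one
    set w' : L := ⟨w, hwL⟩
    have hu : (w' ^ m) ^ p ^ n = 1 := by
      refine Subtype.ext ?_
      show (w ^ m) ^ p ^ n = 1
      rw [← pow_mul, mul_comm, ← he, pow_orderOf_eq_one]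
    have hu1 : w' ^ m ≠ 1 := fun e => by
      have h1 : w ^ m = 1 := congrArg Subtype.val e
      exact hm (hw.trans (orderOf_dvd_of_pow_eq_one h1))
    have hs : ¬ p ∣ orderOf (w' ^ p ^ n) := fun e => by
      rw [← Subgroup.orderOf_coe] at e
      have e' : p ∣ orderOf (w ^ p ^ n) := e
      rw [orderOf_pow_of_dvd (pow_ne_zero _ hp.out.ne_zero) ⟨m, he⟩, he,
        Nat.mul_div_cancel_left _ (pow_pos hp.out.pos n)] at e'
      exact hm e'
    have h1 : (π w') ^ p ^ n = 1 := by
      rw [← map_pow]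
      exact (QuotientGroup.eq_one_iff _).mpr
        (mem_core_of_commute hc hu hu1 hs (Commute.pow_pow_self w' _ _))
    have h2 : π w' ^ m ∈ Q := by rw [← map_pow]; exact p_element_mem hc hu
    obtain ⟨j, hj⟩ := exists_pow_eq_self_of_coprime (x := π w') (n := m)
      (Nat.Coprime.coprime_dvd_right (orderOf_dvd_of_pow_eq_one h1)
        (Nat.Coprime.pow_right n (hp.out.coprime_iff_not_dvd.mpr hm).symm))
    exact hj ▸ pow_mem h2 j
  have hall : ∀ l : L, π l ∈ Q := by
    have hle : L ≤ (Q.comap π).map L.subtype := (closure_le _).mpr fun g hg => by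
      rcases hg with rfl | hg
      · exact ⟨⟨g, haL⟩, haQ, rfl⟩
      · rw [Set.mem_singleton_iff] at hg
        subst hg
        exact ⟨⟨g, hwL⟩, hwQ, rfl⟩
    intro l
    obtain ⟨l', hl', e⟩ := hle l.2
    rw [← L.subtype_injective e]
    exact hl'
  have hp' : ∀ l : L, ¬ p ∣ orderOf (l : G) → π l = 1 := fun l hl => by
    obtain ⟨i, hi⟩ := Cores.isPGroup_pCore p ⟨π l, hall l⟩
    exact eq_one_of_orderOf_dvd (p := p) (by simpa using congrArg Subtype.val hi)
      fun e => hl (e.trans ((orderOf_map_dvd π l).trans (Subgroup.orderOf_coe l).symm.dvd))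
  refine ⟨fun i j hi hj => ?_, fun hwp => ?_⟩
  · set a' : L := ⟨a, haL⟩
    set w' : L := ⟨w, hwL⟩
    have e1 := hp' (a' ^ i * w') hi
    have e2 := hp' (a' ^ j * w') hj
    rw [map_mul] at e1 e2
    have e3 : π (a' ^ i) = π (a' ^ j) := mul_right_cancel (e1.trans e2.symm)
    have e4 : π ((a' ^ j)⁻¹ * a' ^ i) = 1 := by rw [map_mul, map_inv, e3, inv_mul_cancel]
    have e5 := hker _ e4
    have e6 : (a ^ j)⁻¹ * a ^ i = 1 := by
      refine eq_one_of_orderOf_dvd (p := p) (k := 1) ?_ e5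
      have hcm : Commute (a ^ j)⁻¹ (a ^ i) := (Commute.pow_pow_self a j i).inv_left
      rw [pow_one, hcm.mul_pow, inv_pow, ← pow_mul, ← pow_mul, mul_comm j, mul_comm i, pow_mul,
        pow_mul, ha, one_pow, one_pow, inv_one, one_mul]
    exact (inv_mul_eq_one.mp e6).symm
  · obtain ⟨T⟩ : Nonempty (Sylow p L) := inferInstance
    haveI := hc _ T.2
    haveI : IsCyclic Q := by
      rw [hQ, ← sylow_map_eq hc T]
      exact isCyclic_of_surjective _ (π.subgroupMap_surjective (T : Subgroup L))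
    have hao : orderOf (⟨π ⟨a, haL⟩, haQ⟩ : Q) = p := by
      refine orderOf_eq_prime (Subtype.ext ?_) fun e => ?_
      · show (π ⟨a, haL⟩) ^ p = 1
        rw [← map_pow, show (⟨a, haL⟩ : L) ^ p = 1 from Subtype.ext ha, map_one]
      · have e' : π ⟨a, haL⟩ = 1 := congrArg Subtype.val e
        refine hker _ e' ?_
        show p ∣ orderOf a
        rw [orderOf_eq_prime ha ha1]
    obtain ⟨i, hi⟩ := mem_powers_iff_mem_zpowers.mpr (mem_zpowers_of_orderOf hao
      (y := (⟨π ⟨w, hwL⟩, hwQ⟩ : Q)⁻¹) (by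
        rw [inv_pow, inv_eq_one]
        refine Subtype.ext ?_
        show (π ⟨w, hwL⟩) ^ p = 1
        rw [← map_pow, show (⟨w, hwL⟩ : L) ^ p = 1 from Subtype.ext hwp, map_one]))
    refine ⟨i, hker (⟨a, haL⟩ ^ i * ⟨w, hwL⟩) ?_⟩
    have hi' : (π ⟨a, haL⟩) ^ i = (π ⟨w, hwL⟩)⁻¹ := congrArg Subtype.val hi
    rw [map_mul, map_pow, hi', inv_mul_cancel]

/-- A set meeting each line through `0` exactly once and containing every line through two of its
points does not exist. -/
theorem no_line_set {F : Type*} [Field F] (h2 : (2 : F) ≠ 0) {E : F × F → Prop} (h0 : ¬ E 0)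
    (hex : ∀ d : F × F, d ≠ 0 → ∃ k : F, E (k • d))
    (huq : ∀ d : F × F, d ≠ 0 → ∀ k k' : F, E (k • d) → E (k' • d) → k = k')
    (hline : ∀ v v' : F × F, v ≠ v' → E v → E v' → ∀ k : F, E (v + k • (v' - v))) : False := by
  obtain ⟨α, hα⟩ := hex (1, 0) (by simp)
  obtain ⟨β, hβ⟩ := hex (0, 1) (by simp)
  have hα0 : α ≠ 0 := fun e => h0 (by simpa [e] using hα)
  have hβ0 : β ≠ 0 := fun e => h0 (by simpa [e] using hβ)
  have hd : ((-α, β) : F × F) ≠ 0 := fun e => hβ0 (congrArg Prod.snd e)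
  obtain ⟨γ, hγ⟩ := hex _ hd
  have hγ0 : γ ≠ 0 := fun e => h0 (by simpa [e] using hγ)
  by_cases h1 : γ = 1
  · subst h1
    have hne : (1 : F) • ((-α, β) : F × F) ≠ α • ((1, 0) : F × F) := fun e =>
      hβ0 (by simpa using congrArg Prod.snd e)
    have h3 := hline _ _ hne hγ hα (1 / 2)
    have h4 : (1 : F) • ((-α, β) : F × F) + (1 / 2 : F) • (α • (1, 0) - (1 : F) • (-α, β))
        = (β / 2) • ((0, 1) : F × F) := by
      ext <;> simp <;> field_simp <;> ring
    rw [h4] at h3
    have h5 := huq (0, 1) (by simp) _ _ h3 hβ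
    field_simp at h5
    exact one_ne_zero (by linear_combination -h5 : (1 : F) = 0)
  · have h1' : 1 - γ ≠ 0 := sub_ne_zero.mpr (Ne.symm h1)
    have hne : γ • ((-α, β) : F × F) ≠ β • ((0, 1) : F × F) := fun e =>
      mul_ne_zero hγ0 hα0 (by simpa using congrArg Prod.fst e)
    have h3 := hline _ _ hne hγ hβ (-γ / (1 - γ))
    have h4 : γ • ((-α, β) : F × F) + (-γ / (1 - γ)) • (β • (0, 1) - γ • (-α, β))
        = (-γ * α / (1 - γ)) • ((1, 0) : F × F) := by
      ext <;> simp <;> field_simp <;> ring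
    rw [h4] at h3
    have h5 := huq (1, 0) (by simp) _ _ h3 hα
    rw [div_eq_iff h1'] at h5
    exact hα0 (by linear_combination -h5)

/-- In a minimal counterexample the Sylow `p`-subgroups for `p ≥ 5` are cyclic. -/
theorem cyclicP_of_five_le (h : Hyp G) (hp5 : 5 ≤ p) (hpG : p ∣ Nat.card G) (P : Sylow p G) :
    IsCyclic (P : Subgroup G) := by
  by_contra hcyc
  obtain ⟨E, -, -, hE, hEc⟩ := CfsgLib.Fusion.NormalRankTwo.exists_normal_rankTwo
    (R := (P : Subgroup G)) P.2 (by omega) (S := ⊤)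
    (fun hc => hcyc (isCyclic_of_surjective _ (topEquiv (G := (P : Subgroup G))).surjective))
  set M := phi P with hM
  -- an element of order `p` outside `M`
  obtain ⟨x, hxp, hxM⟩ : ∃ x : G, orderOf x = p ∧ x ∉ M := by
    by_contra hall
    push Not at hall
    set N := closure {x : G | orderOf x = p}
    haveI : N.Normal := ⟨fun n hn g => by
      induction hn using closure_induction with
      | mem y hy => exact subset_closure (show orderOf (g * y * g⁻¹) = p from
          (orderOf_injective (MulAut.conj g).toMonoidHom (MulAut.conj g).injective y).trans hy)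
      | one => simp [N.one_mem]
      | mul y z _ _ hy hz => rw [show g * (y * z) * g⁻¹ = g * y * g⁻¹ * (g * z * g⁻¹) by group]
                             exact mul_mem hy hz
      | inv y _ hy => rw [show g * y⁻¹ * g⁻¹ = (g * y * g⁻¹)⁻¹ by group]; exact inv_mem hy⟩
    obtain ⟨y, hy⟩ := exists_prime_orderOf_dvd_card' p hpG
    rcases h.normal_eq N with e | e
    · have h1 : y ∈ N := subset_closure hy
      rw [e, mem_bot] at h1
      exact hp.out.ne_one (by rw [← hy, h1, orderOf_one])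
    · exact phi_ne_top h hp5 hpG P
        (top_le_iff.mp (e ▸ (closure_le _).mpr fun z hz => hall z hz))
  have hxp' : x ^ p = 1 := hxp ▸ pow_orderOf_eq_one x
  -- a basis of `E`
  have hcomm := hE.1.is_comm.comm
  haveI : Nontrivial E := Finite.one_lt_card_iff_nontrivial.mp
    (hEc ▸ Nat.one_lt_pow two_ne_zero hp.out.one_lt)
  obtain ⟨a₀, ha₀⟩ := exists_ne (1 : E)
  obtain ⟨b₀, hb₀⟩ : ∃ b₀ : E, b₀ ∉ zpowers a₀ := by
    by_contra hall
    push Not at hall
    have h1 : Nat.card E ≤ orderOf a₀ := by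
      rw [← Nat.card_zpowers, ← card_top (G := E)]
      exact card_le_of_le fun e _ => hall e
    have h2 : orderOf a₀ ≤ p :=
      Nat.le_of_dvd hp.out.pos (orderOf_dvd_of_pow_eq_one (Subtype.ext (hE.2 a₀ a₀.2)))
    rw [hEc, pow_two] at h1
    nlinarith [hp.out.two_le]
  set a : G := ((a₀ : (P : Subgroup G)) : G) with ha
  set b : G := ((b₀ : (P : Subgroup G)) : G) with hb
  have hap : a ^ p = 1 := by simpa [ha] using congrArg Subtype.val (hE.2 _ a₀.2)
  have hbp : b ^ p = 1 := by simpa [hb] using congrArg Subtype.val (hE.2 _ b₀.2)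
  have hab : Commute a b := congrArg (fun e : E => ((e : (P : Subgroup G)) : G)) (hcomm a₀ b₀)
  set A : ZMod p × ZMod p → G := fun v => a ^ v.1.val * b ^ v.2.val with hA
  have hmodn : ∀ {y : G}, y ^ p = 1 → ∀ s t : ZMod p, y ^ (s + t).val = y ^ s.val * y ^ t.val :=
    fun {y} hy s t => by
      rw [ZMod.val_add, ← pow_add, ← pow_eq_pow_mod _ hy]
  have hAadd : ∀ v v', A (v + v') = A v * A v' := fun v v' => by
    simp only [hA, Prod.fst_add, Prod.snd_add]
    rw [hmodn hap, hmodn hbp, mul_assoc, ← mul_assoc (a ^ v'.1.val),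
      (hab.pow_pow v'.1.val v.2.val).eq, mul_assoc, ← mul_assoc]
  have hA0 : A 0 = 1 := by simp [hA]
  have hApow : ∀ d (k : ℕ), A ((k : ZMod p) • d) = A d ^ k := fun d k => by
    induction k with
    | zero => simp [hA0]
    | succ k ih => rw [Nat.cast_succ, add_smul, one_smul, hAadd, ih, pow_succ]
  have hAp : ∀ d, A d ^ p = 1 := fun d => by rw [← hApow, ZMod.natCast_self, zero_smul, hA0]
  have hAM : ∀ v, A v ∈ M := fun v =>
    mul_mem (pow_mem (le_phi P (a₀ : (P : Subgroup G)).2) _)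
      (pow_mem (le_phi P (b₀ : (P : Subgroup G)).2) _)
  have hA1 : ∀ d, d ≠ 0 → A d ≠ 1 := fun d hd e => by
    have e' : a₀ ^ d.1.val * b₀ ^ d.2.val = 1 := Subtype.ext (Subtype.ext e)
    by_cases h2 : d.2 = 0
    · rw [h2, ZMod.val_zero, pow_zero, mul_one] at e'
      have h3 : orderOf a₀ = p := orderOf_eq_prime (Subtype.ext (hE.2 _ a₀.2)) ha₀
      have h4 : p ∣ d.1.val := by
        have h6 := orderOf_dvd_of_pow_eq_one e'
        rwa [h3] at h6
      have h5 : d.1.val = 0 := Nat.eq_zero_of_dvd_of_lt h4 (ZMod.val_lt _)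
      exact hd (Prod.ext ((ZMod.val_eq_zero _).mp h5) h2)
    · refine hb₀ ?_
      have h3 : b₀ ^ d.2.val ∈ zpowers a₀ := by
        rw [eq_inv_of_mul_eq_one_right e']
        exact inv_mem (pow_mem (mem_zpowers a₀) _)
      obtain ⟨j, hj⟩ := exists_pow_eq_self_of_coprime (x := b₀) (n := d.2.val) (by
        refine Nat.Coprime.coprime_dvd_right
          (orderOf_dvd_of_pow_eq_one (Subtype.ext (hE.2 _ b₀.2) : b₀ ^ p = 1)) ?_
        refine (hp.out.coprime_iff_not_dvd.mpr fun hd' => h2 ?_).symm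
        exact (ZMod.val_eq_zero _).mp (Nat.eq_zero_of_dvd_of_lt hd' (ZMod.val_lt _)))
      exact hj ▸ pow_mem h3 j
  set Ev : ZMod p × ZMod p → Prop := fun v => ¬ p ∣ orderOf (A v * x) with hEv
  have hwM : ∀ v, A v * x ∉ M := fun v e => hxM (by
    have := mul_mem (M.inv_mem (hAM v)) e
    rwa [inv_mul_cancel_left] at this)
  -- the facts about lines
  have key : ∀ t, ¬ Ev t → ∀ d, d ≠ 0 → ∀ k k' : ZMod p, Ev (t + k • d) → Ev (t + k' • d) → k = k' := by
    intro t ht d hd k k' hk hk'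
    simp only [hEv, not_not] at ht
    have hc := (mem_core_of_pair h hp5 P (hAp d) (hA1 d hd) (hAM d) (hwM t) ht).1 k.val k'.val
    have e1 : ∀ k : ZMod p, A d ^ k.val * (A t * x) = A (t + k • d) * x := fun k => by
      rw [← hApow, ZMod.natCast_zmod_val, ← mul_assoc, ← hAadd, add_comm]
    rw [e1, e1] at hc
    have e2 := hc hk hk'
    have h3 : orderOf (A d) = p := orderOf_eq_prime (hAp d) (hA1 d hd)
    have e3 := pow_injOn_Iio_orderOf (x := A d) (by simp [h3, ZMod.val_lt])
      (by simp [h3, ZMod.val_lt]) e2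
    exact ZMod.val_injective p e3
  have h0 : ¬ Ev 0 := by simp [hEv, hA0, hxp]
  refine no_line_set (F := ZMod p) (E := Ev) ?_ h0 (fun d hd => ?_) (fun d hd k k' => ?_) ?_
  · intro e
    have h2 : ((2 : ℕ) : ZMod p) = 0 := by exact_mod_cast e
    exact absurd (Nat.le_of_dvd two_pos ((ZMod.natCast_eq_zero_iff 2 p).mp h2)) (by omega)
  · obtain ⟨i, hi⟩ := (mem_core_of_pair h hp5 P (hAp d) (hA1 d hd) (hAM d) hxM
      (by rw [hxp])).2 hxp'
    exact ⟨(i : ZMod p), by simp only [hEv]; rwa [hApow]⟩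
  · simpa using key 0 h0 d hd k k'
  · intro v v' hne hv hv' k
    by_contra hk
    have e1 : v + k • (v' - v) + (-k) • (v' - v) = v := by module
    have e2 : v + k • (v' - v) + (1 - k) • (v' - v) = v' := by module
    have h3 := key (v + k • (v' - v)) (fun e => e hk) (v' - v) (sub_ne_zero.mpr (Ne.symm hne))
      (-k) (1 - k) (e1.symm ▸ hv) (e2.symm ▸ hv')
    exact one_ne_zero (α := ZMod p) (by linear_combination -h3)

end CfsgLib.Recognition.TwoGenSolvable
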