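import Cfsg.Agent.Lib.Recognition.TwoGenSolvable.Basic

/-!
# Solvable groups with cyclic Sylow `p`-subgroups modulo `O_{p'}`
-/

set_option autoImplicit false
set_option linter.style.haveILetI false
set_option linter.unusedSectionVars false

namespace CfsgLib.Recognition.TwoGenSolvable

open Subgroup CfsgLib.Solvable

variable {L : Type*} [Group L] [Finite L] {p : ℕ} [hp : Fact p.Prime]

theorem isPGroup_zpowers {x : L} {k : ℕ} (hx : x ^ p ^ k = 1) : IsPGroup p (zpowers x) := by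
  obtain ⟨i, -, hi⟩ := (Nat.dvd_prime_pow hp.out).mp (orderOf_dvd_of_pow_eq_one hx)
  exact IsPGroup.of_card (n := i) (by rw [Nat.card_zpowers, hi])

theorem eq_one_of_orderOf_dvd {x : L} {k : ℕ} (hx : x ^ p ^ k = 1) (h : ¬ p ∣ orderOf x) :
    x = 1 := by
  refine orderOf_eq_one_iff.mp ?_
  obtain ⟨i, -, hi⟩ := (Nat.dvd_prime_pow hp.out).mp (orderOf_dvd_of_pow_eq_one hx)
  rcases i with _ | i
  · simpa using hi
  · exact absurd (hi ▸ dvd_pow_self p i.succ_ne_zero) h

/-- An element of order prime to `p` acting on a cyclic `p`-group and fixing a non-identity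
element acts trivially. -/
theorem mem_centralizer_of_cyclic {Y : Subgroup L} (hY : IsPGroup p Y) [IsCyclic Y] {c x : L}
    (hcN : c ∈ normalizer (Y : Set L)) (hc : ¬ p ∣ orderOf c) (hx : x ∈ Y) (hx1 : x ≠ 1)
    (hcx : Commute c x) : c ∈ centralizer (Y : Set L) := by
  obtain ⟨⟨y, hy⟩, hgen⟩ := IsCyclic.exists_generator (α := Y)
  have hpow : ∀ z ∈ Y, ∃ i : ℕ, y ^ i = z := fun z hz => by
    obtain ⟨i, hi⟩ := mem_powers_iff_mem_zpowers.mpr (hgen ⟨z, hz⟩)
    exact ⟨i, by simpa using congrArg Subtype.val hi⟩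
  obtain ⟨k, hk⟩ := hpow _ ((mem_normalizer_iff.mp hcN y).mp hy)
  have hconj : ∀ i : ℕ, c * y ^ i * c⁻¹ = y ^ (k * i) := fun i => by
    rw [← conj_pow, ← hk, ← pow_mul]
  obtain ⟨m, hm⟩ := hpow x hx
  obtain ⟨n, hn⟩ := hY ⟨y, hy⟩
  have hyn : y ^ p ^ n = 1 := by simpa using congrArg Subtype.val hn
  have hmod : ((p : ℤ)) ∣ (k : ℤ) - 1 := by
    by_contra hnd
    refine hx1 ?_
    have h1 : y ^ (k * m) = y ^ m := by
      rw [← hconj m, hm, hcx.eq, mul_inv_cancel_right]
    obtain ⟨j, hj⟩ : ∃ j, orderOf y = p ^ j := by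
      obtain ⟨j, -, hj⟩ := (Nat.dvd_prime_pow hp.out).mp (orderOf_dvd_of_pow_eq_one hyn)
      exact ⟨j, hj⟩
    have h2 : ((p : ℤ) ^ j) ∣ ((k : ℤ) - 1) * m := by
      have h3 : y ^ ((((k : ℤ) - 1) * m)) = 1 := by
        rw [sub_mul, one_mul, zpow_sub, ← Nat.cast_mul, zpow_natCast, zpow_natCast, h1,
          mul_inv_cancel]
      have h4 := orderOf_dvd_iff_zpow_eq_one.mpr h3
      rw [hj] at h4
      exact_mod_cast h4
    have hcop : IsCoprime ((p : ℤ) ^ j) ((k : ℤ) - 1) :=
      ((Nat.prime_iff_prime_int.mp hp.out).irreducible.coprime_iff_not_dvd.mpr hnd).pow_left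
    have h5 : ((p ^ j : ℕ) : ℤ) ∣ (m : ℤ) := by exact_mod_cast hcop.dvd_of_dvd_mul_left h2
    rw [← hm, ← orderOf_dvd_iff_pow_eq_one, hj]
    exact Int.natCast_dvd_natCast.mp h5
  have hiter : ∀ i : ℕ, c ^ i * y * (c ^ i)⁻¹ = y ^ k ^ i := by
    intro i
    induction i with
    | zero => simp
    | succ i ih =>
      rw [pow_succ', show c * c ^ i * y * (c * c ^ i)⁻¹ = c * (c ^ i * y * (c ^ i)⁻¹) * c⁻¹ by
        group, ih, hconj, ← pow_succ']
  have hfix : c ^ p ^ n * y * (c ^ p ^ n)⁻¹ = y := by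
    rw [hiter]
    have h6 : ((p : ℤ) ^ (n + 1)) ∣ (k : ℤ) ^ p ^ n - (1 : ℤ) ^ p ^ n :=
      dvd_sub_pow_of_dvd_sub hmod n
    rw [one_pow] at h6
    have h7 : y ^ (((k ^ p ^ n : ℕ) : ℤ) - 1) = 1 := by
      refine orderOf_dvd_iff_zpow_eq_one.mp
        ((Int.natCast_dvd_natCast.mpr (orderOf_dvd_of_pow_eq_one hyn)).trans ?_)
      push_cast
      exact (pow_dvd_pow _ n.le_succ).trans h6
    rw [zpow_sub, zpow_natCast, zpow_one, mul_inv_eq_one] at h7
    exact h7
  have hcomm : c ^ p ^ n ∈ centralizer ({y} : Set L) :=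
    mem_centralizer_singleton_iff.mpr (mul_inv_eq_iff_eq_mul.mp hfix)
  obtain ⟨j, hj⟩ := exists_pow_eq_self_of_coprime
    ((hp.out.coprime_iff_not_dvd.mpr hc).pow_left n)
  have hcy : c ∈ centralizer ({y} : Set L) := hj ▸ pow_mem hcomm j
  refine mem_centralizer_iff.mpr fun z hz => ?_
  obtain ⟨i, rfl⟩ := hpow z hz
  exact ((mem_centralizer_singleton_iff.mp hcy : c * y = y * c) |> fun e =>
    (Commute.pow_right e i).symm)

theorem mem_zpowers_of_orderOf {C : Type*} [Group C] [Finite C] [IsCyclic C] {y z : C}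
    (hz : orderOf z = p) (hy : y ^ p = 1) : y ∈ zpowers z := by
  classical
  haveI := Fintype.ofFinite C
  have hsub : Finset.univ.filter (· ∈ zpowers z)
      ⊆ Finset.univ.filter fun a : C => a ^ p = 1 := by
    intro a ha
    rw [Finset.mem_filter] at ha ⊢
    obtain ⟨j, rfl⟩ := mem_zpowers_iff.mp ha.2
    refine ⟨Finset.mem_univ _, ?_⟩
    rw [← zpow_natCast, ← zpow_mul, mul_comm, zpow_mul, zpow_natCast, ← hz, pow_orderOf_eq_one,
      one_zpow]
  have hcard : (Finset.univ.filter (· ∈ zpowers z)).card = p := by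
    rw [← Fintype.card_subtype, ← Nat.card_eq_fintype_card, ← hz]
    exact Nat.card_zpowers z
  have he := Finset.eq_of_subset_of_card_le hsub
    ((IsCyclic.card_pow_eq_one_le hp.out.pos).trans hcard.ge)
  have h1 : y ∈ Finset.univ.filter (· ∈ zpowers z) :=
    he ▸ Finset.mem_filter.mpr ⟨Finset.mem_univ _, hy⟩
  exact (Finset.mem_filter.mp h1).2

/-- The hypothesis: every `p`-subgroup is cyclic. -/
def CyclicP (p : ℕ) (L : Type*) [Group L] : Prop := ∀ X : Subgroup L, IsPGroup p X → IsCyclic X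

theorem CyclicP.subgroup (h : CyclicP p L) (H : Subgroup L) : CyclicP p H := fun X hX => by
  haveI := h _ (hX.map H.subtype)
  exact isCyclic_of_surjective _ (X.equivMapOfInjective H.subtype H.subtype_injective).symm.surjective

variable [Group.IsSolvable L]

local notation "K" => Cfsg.pPrimeCore p L
local notation "π" => QuotientGroup.mk' (Cfsg.pPrimeCore p L)

theorem sylow_map_eq (h : CyclicP p L) (P : Sylow p L) :
    (P : Subgroup L).map π = Cfsg.pCore p (L ⧸ K) := by
  have hle : Cfsg.pCore p (L ⧸ K) ≤ (P : Subgroup L).map π := by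
    have := Cores.pCore_le_sylow (P.mapSurjective (QuotientGroup.mk'_surjective K))
    simpa using this
  haveI := h _ P.2
  haveI : IsMulCommutative (P : Subgroup L) := inferInstance
  refine le_antisymm ?_ hle
  refine le_trans ?_ (LocalEven.BenderTransitive.centralizer_pCore_le p
    (Components.pPrimeCore_quotient_eq_bot (G := L)))
  rintro _ ⟨a, ha, rfl⟩
  refine mem_centralizer_iff.mpr fun z hz => ?_
  obtain ⟨b, hb, rfl⟩ := hle hz
  rw [← map_mul, ← map_mul]
  exact congrArg _ (congrArg Subtype.val (mul_comm' (⟨b, hb⟩ : (P : Subgroup L)) ⟨a, ha⟩))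

theorem p_element_mem (h : CyclicP p L) {u : L} {k : ℕ} (hu : u ^ p ^ k = 1) :
    π u ∈ Cfsg.pCore p (L ⧸ K) := by
  obtain ⟨P, hP⟩ := (isPGroup_zpowers hu).exists_le_sylow
  rw [← sylow_map_eq h P]
  exact mem_map_of_mem _ (hP (mem_zpowers u))

/-- Frattini argument. -/
theorem exists_core_mul (h : CyclicP p L) (P : Sylow p L) (l : L) :
    ∃ a ∈ K, ∃ n ∈ normalizer ((P : Subgroup L) : Set L), l = a * n := by
  have hN : (K ⊔ (P : Subgroup L)).Normal := by
    have h1 : ((P : Subgroup L).map π).comap π = K ⊔ (P : Subgroup L) := by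
      rw [comap_map_eq, QuotientGroup.ker_mk', sup_comm]
    rw [← h1, sylow_map_eq h P]
    infer_instance
  have hl : l ∈ normalizer ((P : Subgroup L) : Set L) ⊔ (K ⊔ (P : Subgroup L)) := by
    have e := Sylow.normalizer_sup_eq_top' P (N := K ⊔ (P : Subgroup L)) le_sup_right
    exact e.ge (mem_top l)
  have hl' : l ∈ K ⊔ normalizer ((P : Subgroup L) : Set L) :=
    (sup_le le_sup_right (sup_le le_sup_left (le_normalizer.trans le_sup_right))) hl
  obtain ⟨a, ha, n, hn, rfl⟩ := mem_sup_of_normal_left.mp hl'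
  exact ⟨a, ha, n, hn, rfl⟩

/-- A `p'`-element commuting with a non-identity `p`-element lies in the core. -/
theorem mem_core_of_commute (h : CyclicP p L) {s u : L} {k : ℕ} (hu : u ^ p ^ k = 1) (hu1 : u ≠ 1)
    (hs : ¬ p ∣ orderOf s) (hsu : Commute s u) : s ∈ K := by
  have hs' : ¬ p ∣ orderOf (π s) := fun e => hs (e.trans (orderOf_map_dvd π s))
  have hu' : π u ≠ 1 := fun e => by
    refine hu1 (eq_one_of_orderOf_dvd hu fun hd => ?_)
    have hmem : u ∈ K := (QuotientGroup.eq_one_iff u).mp e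
    exact not_dvd_card_of_coprime (Cores.coprime_card_pPrimeCore p) (hd.trans
      (Nat.card_zpowers u ▸ card_dvd_of_le (zpowers_le.mpr hmem)))
  obtain ⟨P⟩ : Nonempty (Sylow p L) := inferInstance
  haveI := h _ P.2
  haveI : IsCyclic (Cfsg.pCore p (L ⧸ K)) := by
    rw [← sylow_map_eq h P]
    exact isCyclic_of_surjective _ ((π).subgroupMap_surjective (P : Subgroup L))
  have h1 := mem_centralizer_of_cyclic (Cores.isPGroup_pCore p)
    (by rw [normalizer_eq_top]; trivial) hs' (p_element_mem h hu) hu' (hsu.map π)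
  have h2 := LocalEven.BenderTransitive.centralizer_pCore_le p
    (Components.pPrimeCore_quotient_eq_bot (G := L)) h1
  obtain ⟨i, hi⟩ := Cores.isPGroup_pCore p ⟨π s, h2⟩
  exact (QuotientGroup.eq_one_iff s).mp
    (eq_one_of_orderOf_dvd (by simpa using congrArg Subtype.val hi) hs')

end CfsgLib.Recognition.TwoGenSolvable
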