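import Cfsg.Agent.Lib.Recognition.TwoGenSolvable.CyclicModCore

/-!
# A minimal counterexample and a cyclic Sylow subgroup `R`: centralisers, exponents

The centraliser of every non-identity element of `R` is `R`, and the `p'`-elements of `G` have
orders dividing `[N(R) : R]`.
-/

set_option autoImplicit false
set_option linter.style.haveILetI false
set_option linter.unusedSectionVars false

namespace CfsgLib.Recognition.TwoGenSolvable

open Subgroup CfsgLib.Solvable
open scoped Pointwise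

variable {G : Type*} [Group G] [Finite G] {p : ℕ} [hp : Fact p.Prime]

theorem cyclicP_of_sylow (R : Sylow p G) (hR : IsCyclic (R : Subgroup G)) : CyclicP p G := by
  intro X hX
  obtain ⟨P, hP⟩ := hX.exists_le_sylow
  haveI : IsCyclic (P : Subgroup G) := isCyclic_of_surjective _ (R.equiv P).surjective
  exact isCyclic_of_surjective _ (subgroupOfEquivOfLe hP).surjective

variable (h : Hyp G) (hc : CyclicP p G) (hpG : p ∣ Nat.card G)
include h hc hpG

theorem centralizer_eq_sylow (R : Sylow p G) {x : G} (hx : x ∈ (R : Subgroup G)) (hx1 : x ≠ 1) :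
    centralizer ({x} : Set G) = (R : Subgroup G) := by
  set C := centralizer ({x} : Set G) with hC
  haveI := h.proper C (h.centralizer_ne_top hx1)
  obtain ⟨k, hk⟩ := R.2 ⟨x, hx⟩
  have hk' : x ^ p ^ k = 1 := by simpa using congrArg Subtype.val hk
  have hxC : x ∈ C := mem_centralizer_singleton_iff.mpr rfl
  have hbot := h.primeCore_centralizer hpG hk'
  have hCp : IsPGroup p C := by
    intro s
    obtain ⟨n, m, hm, he⟩ := Nat.exists_eq_pow_mul_and_not_dvd (orderOf_pos s).ne' p hp.out.ne_one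
    refine ⟨n, ?_⟩
    have ho : ¬ p ∣ orderOf (s ^ p ^ n) := by
      rw [orderOf_pow_of_dvd (pow_ne_zero _ hp.out.ne_zero) ⟨m, he⟩, he,
        Nat.mul_div_cancel_left _ (pow_pos hp.out.pos n)]
      exact hm
    have h1 := mem_core_of_commute (hc.subgroup C) (u := ⟨x, hxC⟩) (k := k) (Subtype.ext hk')
      (fun e => hx1 (congrArg Subtype.val e)) ho
      (Subtype.ext (mem_centralizer_singleton_iff.mp (s ^ p ^ n).2))
    rw [hbot, mem_bot] at h1
    exact h1
  haveI := hc _ R.2
  refine R.3 hCp fun y hy => mem_centralizer_singleton_iff.mpr ?_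
  exact congrArg Subtype.val (mul_comm' (⟨y, hy⟩ : (R : Subgroup G)) ⟨x, hx⟩)

theorem eq_of_mem (R R' : Sylow p G) {x : G} (hx : x ∈ (R : Subgroup G))
    (hx' : x ∈ (R' : Subgroup G)) (hx1 : x ≠ 1) : R = R' :=
  Sylow.ext ((centralizer_eq_sylow h hc hpG R hx hx1).symm.trans
    (centralizer_eq_sylow h hc hpG R' hx' hx1))

theorem normalizer_le_normalizer_sylow (R : Sylow p G) {X : Subgroup G} (hX : X ≤ (R : Subgroup G))
    (hne : X ≠ ⊥) : normalizer (X : Set G) ≤ normalizer ((R : Subgroup G) : Set G) := by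
  obtain ⟨x, hxX, hx1⟩ := X.ne_bot_iff_exists_ne_one.mp hne |> fun ⟨⟨x, hx⟩, h1⟩ =>
    (⟨x, hx, fun e => h1 (Subtype.ext e)⟩ : ∃ x, x ∈ X ∧ x ≠ 1)
  intro g hg
  have hgx : g * x * g⁻¹ ∈ (R : Subgroup G) := hX ((mem_normalizer_iff.mp hg x).mp hxX)
  have h1 : g • R = R := by
    refine eq_of_mem h hc hpG _ R ?_ hgx (by simpa using hx1)
    rw [Sylow.coe_subgroup_smul]
    exact smul_mem_pointwise_smul x (MulAut.conj g) _ (hX hxX)
  exact Sylow.smul_eq_iff_mem_normalizer.mp h1

/-- `[N(R) : R]`. -/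
noncomputable def autDeg (R : Sylow p G) : ℕ :=
  (R : Subgroup G).relIndex (normalizer ((R : Subgroup G) : Set G))

omit h hc hpG in
theorem pow_autDeg_mem (R : Sylow p G) {n : G}
    (hn : n ∈ normalizer ((R : Subgroup G) : Set G)) : n ^ autDeg R ∈ (R : Subgroup G) := by
  haveI : ((R : Subgroup G).subgroupOf (normalizer ((R : Subgroup G) : Set G))).Normal :=
    Subgroup.normal_in_normalizer
  exact Subgroup.pow_index_mem ((R : Subgroup G).subgroupOf _) (⟨n, hn⟩ : normalizer _)

omit h hc hpG in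
theorem exists_pow_autDeg (R R' : Sylow p G) {n : G}
    (hn : n ∈ normalizer ((R' : Subgroup G) : Set G)) : ∃ k, (n ^ autDeg R) ^ p ^ k = 1 := by
  obtain ⟨c, hcR⟩ := MulAction.exists_smul_eq G R R'
  have hc' : MulAut.conj c • (R : Subgroup G) = (R' : Subgroup G) := by
    rw [← hcR]; rfl
  have hn' : c⁻¹ * n * c ∈ normalizer ((R : Subgroup G) : Set G) := by
    refine mem_normalizer_iff.mpr fun y => ?_
    have hmem : ∀ z : G, z ∈ (R : Subgroup G) ↔ c * z * c⁻¹ ∈ (R' : Subgroup G) := fun z => by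
      rw [← hc', show c * z * c⁻¹ = MulAut.conj c • z from rfl, smul_mem_pointwise_smul_iff]
    rw [hmem y, hmem (c⁻¹ * n * c * y * (c⁻¹ * n * c)⁻¹), mem_normalizer_iff.mp hn (c * y * c⁻¹)]
    group
  obtain ⟨k, hk⟩ := R.2 ⟨_, pow_autDeg_mem R hn'⟩
  refine ⟨k, ?_⟩
  have h2 : ((c⁻¹ * n * c) ^ autDeg R) ^ p ^ k = 1 := by simpa using congrArg Subtype.val hk
  rwa [show c⁻¹ * n * c = c⁻¹ * n * c⁻¹⁻¹ by group, conj_pow, conj_pow, conj_eq_one_iff] at h2

/-- Orders of `p'`-elements divide `[N(R) : R]`. -/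
theorem pow_autDeg_eq_one (R : Sylow p G) {u : G} (hu : ¬ p ∣ orderOf u) : u ^ autDeg R = 1 := by
  refine h.eq_one_of_core hpG fun g _ => ?_
  set L := closure ({u, g} : Set G) with hL
  haveI : Group.IsSolvable L := h.pair u g
  have huL : u ∈ L := subset_closure (Set.mem_insert _ _)
  refine ⟨_, ?_, mem_normalizer_primeCore (subset_closure (by simp)), not_dvd_card_primeCore L⟩
  set u' : L := ⟨u, huL⟩
  refine ⟨u' ^ autDeg R, ?_, rfl⟩
  obtain ⟨P⟩ : Nonempty (Sylow p L) := inferInstance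
  by_cases hP : (P : Subgroup L) = ⊥
  · have hcop : (Nat.card (⊤ : Subgroup L)).Coprime p := by
      rw [card_top]
      exact (hp.out.coprime_iff_not_dvd.mpr fun e => P.ne_bot_of_dvd_card e hP).symm
    exact Cores.le_pPrimeCore hcop (mem_top _)
  obtain ⟨R', hR'⟩ := (P.2.map L.subtype).exists_le_sylow
  obtain ⟨a, ha, n, hn, he⟩ := exists_core_mul (hc.subgroup L) P u'
  have hnN : (n : G) ∈ normalizer ((R' : Subgroup G) : Set G) :=
    normalizer_le_normalizer_sylow h hc hpG R' hR'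
      (fun e => hP ((Subgroup.map_eq_bot_iff_of_injective _ L.subtype_injective).mp e))
      (le_normalizer_map L.subtype ⟨n, hn, rfl⟩)
  obtain ⟨k, hk⟩ := exists_pow_autDeg R R' hnN
  have hnk : (n ^ autDeg R) ^ p ^ k = 1 := Subtype.ext (by simpa using hk)
  set π := QuotientGroup.mk' (Cfsg.pPrimeCore p L)
  have hπ : π u' = π n := by
    rw [he, map_mul, show π a = 1 from (QuotientGroup.eq_one_iff a).mpr ha, one_mul]
  refine (QuotientGroup.eq_one_iff _).mp ?_
  show π (u' ^ autDeg R) = 1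
  refine eq_one_of_orderOf_dvd (p := p) (k := k) ?_ fun hd => hu ?_
  · rw [map_pow, hπ, ← map_pow, ← map_pow, hnk, map_one]
  · refine hd.trans ((orderOf_map_dvd π _).trans ((orderOf_pow_dvd _).trans ?_))
    rw [Subgroup.orderOf_mk]

end CfsgLib.Recognition.TwoGenSolvable
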