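import Cfsg.Agent.Lib.Recognition.TwoGenSolvable.NoCyclicSylow
import Cfsg.Agent.Lib.Recognition.TwoGenSolvable.CosetLines
import Cfsg.Agent.Lib.Recognition.FiveOrbits.Basic

/-!
# Groups in which every two elements generate a solvable subgroup are solvable

The two-generation criterion and the criterion by solubilisers.
-/

set_option autoImplicit false
set_option linter.style.haveILetI false

namespace CfsgLib.Recognition.TwoGenSolvable

open Subgroup

universe u

theorem closure_pair_map {G H : Type*} [Group G] [Group H] (f : G →* H) (a b : G) :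
    (closure ({a, b} : Set G)).map f = closure ({f a, f b} : Set H) := by
  rw [MonoidHom.map_closure, Set.image_pair]

theorem pair_subgroup {G : Type*} [Group G] (H : Subgroup G) (a b : H)
    (h : Group.IsSolvable (closure ({(a : G), (b : G)} : Set G))) :
    Group.IsSolvable (closure ({a, b} : Set H)) := by
  haveI := h
  let e := (closure ({a, b} : Set H)).equivMapOfInjective H.subtype H.subtype_injective
  haveI : Group.IsSolvable ((closure ({a, b} : Set H)).map H.subtype) := by
    rw [closure_pair_map]; exact h
  exact Group.isSolvable_of_surjective (f := e.symm.toMonoidHom) e.symm.surjective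

theorem pair_quotient {G : Type*} [Group G] (N : Subgroup G) [N.Normal] (a b : G)
    (h : Group.IsSolvable (closure ({a, b} : Set G))) :
    Group.IsSolvable (closure ({(a : G ⧸ N), (b : G ⧸ N)} : Set (G ⧸ N))) := by
  haveI := h
  rw [← show (closure ({a, b} : Set G)).map (QuotientGroup.mk' N)
    = closure ({(a : G ⧸ N), (b : G ⧸ N)} : Set (G ⧸ N)) from closure_pair_map _ a b]
  exact Group.isSolvable_of_surjective ((QuotientGroup.mk' N).subgroupMap_surjective _)

/-- The reduction to a simple group all whose proper subgroups are solvable. -/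
theorem isSolvable_induction (P : ∀ (G : Type u) [Group G] [Finite G], Prop)
    (hsub : ∀ (G : Type u) [Group G] [Finite G] (H : Subgroup G), P G → P H)
    (hquot : ∀ (G : Type u) [Group G] [Finite G] (N : Subgroup G) [N.Normal],
      Group.IsSolvable N → P G → P (G ⧸ N))
    (hsimple : ∀ (G : Type u) [Group G] [Finite G], IsSimpleGroup G → ¬ Group.IsSolvable G →
      (∀ H : Subgroup G, H ≠ ⊤ → Group.IsSolvable H) → P G → False) :
    ∀ (G : Type u) [Group G] [Finite G], P G → Group.IsSolvable G := by
  suffices hind : ∀ (n : ℕ) (G : Type u) [Group G] [Finite G], Nat.card G = n → P G →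
      Group.IsSolvable G from fun G _ _ hG => hind _ G rfl hG
  intro n
  induction n using Nat.strong_induction_on with
  | _ n ih =>
  intro G _ _ hn hG
  by_contra hns
  have hproper : ∀ H : Subgroup G, H ≠ ⊤ → Group.IsSolvable H := fun H hH => by
    refine ih _ ?_ H rfl (hsub G H hG)
    refine hn ▸ (lt_of_le_of_ne (card_le_card_group H) fun e => hH ?_)
    exact Subgroup.eq_top_of_card_eq H e
  haveI : Nontrivial G := by
    by_contra hnt
    haveI := not_nontrivial_iff_subsingleton.mp hnt
    exact hns (Group.isSolvable_of_comm fun a b => Subsingleton.elim _ _)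
  refine hsimple G ?_ hns hproper hG
  refine { eq_bot_or_eq_top_of_normal := fun N hN => ?_ }
  by_contra hne
  push Not at hne
  haveI := hproper N hne.2
  haveI : Group.IsSolvable (G ⧸ N) := by
    refine ih _ ?_ (G ⧸ N) rfl (hquot G N inferInstance hG)
    rw [← hn, Subgroup.card_eq_card_quotient_mul_card_subgroup N]
    exact lt_mul_of_one_lt_right Nat.card_pos
      (Finite.one_lt_card_iff_nontrivial.mpr ((nontrivial_iff_ne_bot N).mpr hne.1))
  exact hns (Group.isSolvable_of_ker_le_range N.subtype (QuotientGroup.mk' N) (by simp))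

theorem false_of_hyp {G : Type*} [Group G] [Finite G] (h : Hyp G) : False := by
  haveI := h.simple
  have h3 := CfsgLib.Recognition.FiveOrbits.three_le_primes (G := G) h.noncomm
  obtain ⟨p, hp, hp5⟩ : ∃ p ∈ (Nat.card G).primeFactors, 5 ≤ p := by
    by_contra hall
    push Not at hall
    have hsub : (Nat.card G).primeFactors ⊆ {2, 3} := by
      intro q hq
      have hlt := hall q hq
      have hpr := Nat.prime_of_mem_primeFactors hq
      interval_cases q <;> simp_all (config := { decide := true })
    have := Finset.card_le_card hsub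
    simp at this
    omega
  haveI : Fact p.Prime := ⟨Nat.prime_of_mem_primeFactors hp⟩
  have hpG := Nat.dvd_of_mem_primeFactors hp
  obtain ⟨P⟩ : Nonempty (Sylow p G) := inferInstance
  exact false_of_cyclicP h (cyclicP_of_sylow P (cyclicP_of_five_le h hp5 hpG P)) hpG

/-- A finite group all whose two-generated subgroups are solvable is solvable. -/
theorem isSolvable_of_pair (G : Type u) [Group G] [Finite G]
    (h : ∀ a b : G, Group.IsSolvable (closure ({a, b} : Set G))) : Group.IsSolvable G :=
  isSolvable_induction (fun G _ _ => ∀ a b : G, Group.IsSolvable (closure ({a, b} : Set G)))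
    (fun _ _ _ H hG a b => pair_subgroup H a b (hG _ _))
    (fun _ _ _ N _ _ hG a b => by
      obtain ⟨a, rfl⟩ := QuotientGroup.mk_surjective a
      obtain ⟨b, rfl⟩ := QuotientGroup.mk_surjective b
      exact pair_quotient N a b (hG a b))
    (fun _ _ _ hs hns hp hG => false_of_hyp ⟨hs, hns, hp, hG⟩) G h

theorem isSolvable_two_involutions {G : Type*} [Group G] {t s : G} (ht : t * t = 1)
    (hs : s * s = 1) : Group.IsSolvable (closure ({t, s} : Set G)) := by
  set H := closure ({t, s} : Set G) with hH
  set C := zpowers (t * s) with hC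
  have hti : t⁻¹ = t := inv_eq_of_mul_eq_one_right ht
  have hsi : s⁻¹ = s := inv_eq_of_mul_eq_one_right hs
  have hgen : ∀ g : G, g * (t * s) * g⁻¹ ∈ C → C.map (MulAut.conj g).toMonoidHom ≤ C :=
    fun g hg => by rw [hC, MonoidHom.map_zpowers, zpowers_le]; exact hg
  have hinv : (t * s)⁻¹ ∈ C := inv_mem (mem_zpowers _)
  rw [mul_inv_rev, hti, hsi] at hinv
  have htn : ∀ g : G, g * g = 1 → g * (t * s) * g⁻¹ ∈ C → g ∈ normalizer (C : Set G) := by
    intro g hg hmem
    have hgi : g⁻¹ = g := inv_eq_of_mul_eq_one_right hg
    refine mem_normalizer_iff.mpr fun c => ⟨fun hc => hgen g hmem ⟨c, hc, rfl⟩, fun hc => ?_⟩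
    have h2 : g * (g * c * g⁻¹) * g⁻¹ ∈ C := hgen g hmem ⟨_, hc, rfl⟩
    rwa [show g * (g * c * g⁻¹) * g⁻¹ = (g * g) * c * (g⁻¹ * g⁻¹) by group, hg, hgi, hg, one_mul,
      mul_one] at h2
  have htN : t ∈ normalizer (C : Set G) := htn t ht (by
    rw [hti, show t * (t * s) * t = (t * t) * (s * t) by group, ht, one_mul]; exact hinv)
  have hsN : s ∈ normalizer (C : Set G) := htn s hs (by
    rw [hsi, show s * (t * s) * s = s * t * (s * s) by group, hs, mul_one]; exact hinv)
  have hle : H ≤ normalizer (C : Set G) :=
    (closure_le _).mpr fun g hg => by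
      rcases hg with rfl | hg
      · exact htN
      · rw [Set.mem_singleton_iff] at hg; exact hg ▸ hsN
  haveI : (C.subgroupOf H).Normal := normal_subgroupOf_of_le_normalizer hle
  have hgenH : ∀ x : H, (x : H ⧸ C.subgroupOf H) ∈
      zpowers ((⟨t, subset_closure (Set.mem_insert _ _)⟩ : H) : H ⧸ C.subgroupOf H) := by
    have hsub : H ≤ ((zpowers ((⟨t, subset_closure (Set.mem_insert _ _)⟩ : H) :
        H ⧸ C.subgroupOf H)).comap (QuotientGroup.mk' _)).map H.subtype := by
      refine (closure_le _).mpr fun g hg => ?_
      rcases hg with rfl | hg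
      · exact ⟨⟨g, _⟩, mem_zpowers _, rfl⟩
      · rw [Set.mem_singleton_iff] at hg
        subst hg
        refine ⟨⟨g, subset_closure (by simp)⟩, ?_, rfl⟩
        refine mem_zpowers_iff.mpr ⟨1, ?_⟩
        rw [zpow_one]
        refine QuotientGroup.eq.mpr ?_
        rw [mem_subgroupOf]
        show t⁻¹ * g ∈ C
        rw [hti]
        exact mem_zpowers _
    intro x
    obtain ⟨y, hy, e⟩ := hsub x.2
    exact H.subtype_injective e ▸ hy
  haveI : Group.IsSolvable (H ⧸ C.subgroupOf H) := by
    haveI : IsCyclic (H ⧸ C.subgroupOf H) := ⟨_, fun q => by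
      obtain ⟨x, rfl⟩ := QuotientGroup.mk_surjective q; exact hgenH x⟩
    exact Group.isSolvable_of_comm fun a b => IsCyclic.commGroup.mul_comm a b
  haveI : Group.IsSolvable (C.subgroupOf H) := Group.isSolvable_of_comm fun a b =>
    Subtype.ext (Subtype.ext (by
      obtain ⟨i, hi⟩ := mem_zpowers_iff.mp (a.2 : ((a : H) : G) ∈ C)
      obtain ⟨j, hj⟩ := mem_zpowers_iff.mp (b.2 : ((b : H) : G) ∈ C)
      show ((a : H) : G) * ((b : H) : G) = ((b : H) : G) * ((a : H) : G)
      rw [show ((a : H) : G) = (t * s) ^ i from hi.symm, show ((b : H) : G) = (t * s) ^ j from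
        hj.symm, ← zpow_add, ← zpow_add, add_comm]))
  exact Group.isSolvable_of_ker_le_range (C.subgroupOf H).subtype
    (QuotientGroup.mk' (C.subgroupOf H)) (by simp)

/-- The solubiliser of every element is a subgroup. -/
def SolSubgroups (G : Type u) [Group G] : Prop :=
  ∀ x : G, ∃ H : Subgroup G,
    (H : Set G) = {y : G | Group.IsSolvable ↥(closure ({x, y} : Set G))}

theorem pair_of_subgroup {G : Type*} [Group G] (H : Subgroup G) (a b : H)
    (h : Group.IsSolvable (closure ({a, b} : Set H))) :
    Group.IsSolvable (closure ({(a : G), (b : G)} : Set G)) := by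
  haveI := h
  rw [← show (closure ({a, b} : Set H)).map H.subtype = closure ({(a : G), (b : G)} : Set G) from
    closure_pair_map _ a b]
  exact Group.isSolvable_of_surjective (H.subtype.subgroupMap_surjective _)

theorem pair_of_quotient {G : Type*} [Group G] (N : Subgroup G) [N.Normal]
    (hN : Group.IsSolvable N) (a b : G)
    (h : Group.IsSolvable (closure ({(a : G ⧸ N), (b : G ⧸ N)} : Set (G ⧸ N)))) :
    Group.IsSolvable (closure ({a, b} : Set G)) := by
  haveI := hN
  haveI := h
  set S := closure ({a, b} : Set G)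
  set Q := closure ({(a : G ⧸ N), (b : G ⧸ N)} : Set (G ⧸ N))
  let f : S →* Q := ((QuotientGroup.mk' N).comp S.subtype).codRestrict Q fun x => by
    have : (S.map (QuotientGroup.mk' N)) = Q := closure_pair_map _ a b
    exact this ▸ mem_map_of_mem _ x.2
  haveI : Group.IsSolvable f.ker := by
    refine Group.isSolvable_of_isSolvable_injective (f := (
      { toFun := fun x => (⟨((x : S) : G), (QuotientGroup.eq_one_iff _).mp
          (congrArg Subtype.val x.2)⟩ : N)
        map_one' := rfl
        map_mul' := fun _ _ => rfl } : f.ker →* N)) ?_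
    intro x y e
    have e' : (((x : f.ker) : S) : G) = (((y : f.ker) : S) : G) := congrArg (fun z : N => (z : G)) e
    exact Subtype.ext (Subtype.ext e')
  exact Group.isSolvable_of_ker_le_range f.ker.subtype f (by simp)

/-- If every solubiliser is a subgroup then the group is solvable. -/
theorem isSolvable_of_solSubgroups (G : Type u) [Group G] [Finite G] (h : SolSubgroups G) :
    Group.IsSolvable G := by
  refine isSolvable_induction (fun G _ _ => SolSubgroups G) ?_ ?_ ?_ G h
  · intro G _ _ K hG x
    obtain ⟨H₀, hH₀⟩ := hG x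
    refine ⟨H₀.subgroupOf K, Set.ext fun y => ?_⟩
    rw [SetLike.mem_coe, mem_subgroupOf, ← SetLike.mem_coe, hH₀]
    exact ⟨pair_subgroup K x y, pair_of_subgroup K x y⟩
  · intro G _ _ N _ hN hG x
    obtain ⟨x, rfl⟩ := QuotientGroup.mk_surjective x
    obtain ⟨H₀, hH₀⟩ := hG x
    refine ⟨H₀.map (QuotientGroup.mk' N), Set.ext fun y => ?_⟩
    constructor
    · rintro ⟨z, hz, rfl⟩
      exact pair_quotient N x z (hH₀.subset hz)
    · intro hy
      obtain ⟨z, rfl⟩ := QuotientGroup.mk_surjective y
      exact ⟨z, hH₀.symm.subset (pair_of_quotient N hN x z hy), rfl⟩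
  · intro G _ _ hs hns hp hG
    haveI := hs
    have hna : ¬ IsMulCommutative G := fun e =>
      hns (Group.isSolvable_of_comm fun a b => e.is_comm.comm a b)
    obtain ⟨t, ht⟩ := exists_prime_orderOf_dvd_card' (G := G) 2
      (CfsgLib.Recognition.FiveOrbits.two_dvd_card hna)
    set N := closure {s : G | orderOf s = 2}
    haveI : N.Normal := ⟨fun n hn g => by
      induction hn using closure_induction with
      | mem y hy => exact subset_closure (show orderOf (g * y * g⁻¹) = 2 from
          (orderOf_injective (MulAut.conj g).toMonoidHom (MulAut.conj g).injective y).trans hy)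
      | one => simp [N.one_mem]
      | mul y z _ _ hy hz => rw [show g * (y * z) * g⁻¹ = g * y * g⁻¹ * (g * z * g⁻¹) by group]
                             exact mul_mem hy hz
      | inv y _ hy => rw [show g * y⁻¹ * g⁻¹ = (g * y * g⁻¹)⁻¹ by group]; exact inv_mem hy⟩
    have hN : N = ⊤ := (hs.eq_bot_or_eq_top_of_normal N inferInstance).resolve_left fun e => by
      have h1 : t ∈ N := subset_closure ht
      rw [e, mem_bot] at h1
      rw [h1, orderOf_one] at ht
      omega
    have hinv : ∀ s : G, orderOf s = 2 → s * s = 1 := fun s hs => by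
      rw [← pow_two, ← hs, pow_orderOf_eq_one]
    have h1 : ∀ s : G, orderOf s = 2 → ∀ y : G,
        Group.IsSolvable (closure ({y, s} : Set G)) := by
      intro s hs y
      obtain ⟨H, hH⟩ := hG s
      have hle : N ≤ H := (closure_le _).mpr fun r hr => hH.symm.subset
        (isSolvable_two_involutions (hinv s hs) (hinv r hr))
      have h2 := hH.subset (hle (hN ▸ mem_top y))
      rw [Set.pair_comm]; exact h2
    refine false_of_hyp ⟨hs, hns, hp, fun a b => ?_⟩
    obtain ⟨H, hH⟩ := hG a
    have hle : N ≤ H := (closure_le _).mpr fun r hr => hH.symm.subset (h1 r hr a)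
    exact hH.subset (hle (hN ▸ mem_top b))

end CfsgLib.Recognition.TwoGenSolvable
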