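import Mathlib

/-!
# A norm lemma for Frobenius actions

If `x` has `p`-power action without fixed points on an abelian group `V` and `i` moves `⟨x⟩`
freely below `n`, then the product over `k < n` of the `iᵏ`-translates is not constantly `1`.
-/

set_option autoImplicit false

namespace CfsgLib.Recognition.TwoGenSolvable

open Finset

theorem norm_ne_one {V A : Type*} [CommGroup V] [Group A] (φ : A →* MulAut V) {p n : ℕ}
    [hp : Fact p.Prime] {x i : A} (hn : 0 < n) (hx : x ^ p = 1)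
    (hfix : ∀ v : V, φ x v = v → v = 1)
    (hi : ∀ k, 0 < k → k < n → ∃ c : ℕ, (c : ZMod p) ≠ 1 ∧ i ^ k * x = x ^ c * i ^ k)
    {v : V} (hv : v ^ p ≠ 1) : ∃ w : V, (∏ k ∈ range n, φ (i ^ k) w) ≠ 1 := by
  by_contra hall
  push Not at hall
  set X : ZMod p → A := fun j => x ^ j.val with hX
  have hmod : ∀ m : ℕ, x ^ m = X (m : ZMod p) := fun m => by
    rw [hX, pow_eq_pow_mod m hx]; simp [ZMod.val_natCast]
  have hadd : ∀ a b : ZMod p, X a * X b = X (a + b) := fun a b => by
    rw [hX]; simp only; rw [← pow_add, hmod (a.val + b.val), Nat.cast_add, ZMod.natCast_zmod_val,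
      ZMod.natCast_zmod_val]
  refine hv ?_
  have h1 : (∏ j : ZMod p, φ (X j) (∏ k ∈ range n, φ (i ^ k) (φ (X (-j)) v))) = 1 := by
    refine Finset.prod_eq_one fun j _ => ?_
    rw [hall, map_one]
  simp only [map_prod] at h1
  rw [Finset.prod_comm, Finset.prod_eq_single_of_mem 0 (Finset.mem_range.mpr hn)] at h1
  · have h2 : ∀ j : ZMod p, φ (X j) (φ (i ^ 0) (φ (X (-j)) v)) = v := fun j => by
      rw [pow_zero, map_one, MulAut.one_apply, ← MulAut.mul_apply, ← map_mul, hadd, add_neg_cancel]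
      simp [hX]
    rw [Finset.prod_congr rfl fun j _ => h2 j] at h1
    simpa [ZMod.card] using h1
  intro k hk hk0
  obtain ⟨c, hc, hcomm⟩ := hi k (Nat.pos_of_ne_zero hk0) (Finset.mem_range.mp hk)
  have hpow : ∀ m : ℕ, i ^ k * x ^ m = x ^ (c * m) * i ^ k := by
    intro m
    induction m with
    | zero => simp
    | succ m ih =>
      rw [pow_succ, ← mul_assoc, ih, mul_assoc, hcomm, ← mul_assoc, ← pow_add,
        show c * m + c = c * (m + 1) by ring]
  have hterm : ∀ j : ZMod p, φ (X j) (φ (i ^ k) (φ (X (-j)) v))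
      = φ (X (j * (1 - (c : ZMod p)))) (φ (i ^ k) v) := fun j => by
    rw [← MulAut.mul_apply, ← map_mul, ← MulAut.mul_apply, ← map_mul, ← MulAut.mul_apply,
      ← map_mul]
    congr 2
    have h5 : i ^ k * X (-j) = X (c * -j) * i ^ k := by
      show i ^ k * x ^ (-j).val = _
      rw [hpow, hmod, Nat.cast_mul, ZMod.natCast_zmod_val]
    rw [mul_assoc, h5, ← mul_assoc, hadd, show j + (c : ZMod p) * -j = j * (1 - c) by ring]
  rw [Finset.prod_congr rfl fun j _ => hterm j]
  have hc' : (1 : ZMod p) - c ≠ 0 := sub_ne_zero.mpr (Ne.symm hc)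
  rw [Fintype.prod_equiv (Equiv.mulRight₀ (1 - (c : ZMod p)) hc')
    (fun j => φ (X (j * (1 - (c : ZMod p)))) (φ (i ^ k) v)) (fun y => φ (X y) (φ (i ^ k) v))
    (fun j => rfl)]
  refine hfix _ ?_
  rw [map_prod]
  refine Fintype.prod_equiv (Equiv.addLeft (1 : ZMod p)) _ _ fun y => ?_
  rw [← MulAut.mul_apply, ← map_mul]
  congr 3
  show x * X y = X (1 + y)
  rw [← hadd, ← pow_one x, hmod 1, Nat.cast_one]

end CfsgLib.Recognition.TwoGenSolvable
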