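import Cfsg.Agent.Lib.Recognition.TwoGenSolvable.CyclicSylow
import Cfsg.Agent.Lib.Recognition.TwoGenSolvable.Norm
import Cfsg.Agent.S0033

/-!
# A minimal counterexample has no cyclic Sylow subgroup

With `R` a cyclic Sylow `p`-subgroup and `N = N(R)`, the maximal subgroups `M ≠ N` containing `R`
satisfy `M = K N` with `K` nilpotent of order prime to `p`, and two of them meet in `N`. Then a
product of a central element of prime order `q` of `K` with a `q`-element of `N` generating a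
Sylow `q`-subgroup of `N` has order not dividing `[N : R]`.
-/

set_option autoImplicit false
set_option linter.style.haveILetI false
set_option linter.unusedSectionVars false

namespace CfsgLib.Recognition.TwoGenSolvable

open Subgroup CfsgLib.Solvable
open scoped Pointwise

variable {G : Type*} [Group G] [Finite G] {p : ℕ} [hp : Fact p.Prime]

local notation "𝐍" => fun (R : Sylow p G) => normalizer ((R : Subgroup G) : Set G)

/-- A maximal subgroup containing `R`, other than its normaliser. -/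
def IsOver (R : Sylow p G) (M : Subgroup G) : Prop :=
  IsCoatom M ∧ (R : Subgroup G) ≤ M ∧ M ≠ normalizer ((R : Subgroup G) : Set G)

/-- `O_{p'}(M)` inside `G`. -/
noncomputable def coreOf (p : ℕ) (M : Subgroup G) : Subgroup G :=
  (Cfsg.pPrimeCore p M).map M.subtype

variable (h : Hyp G) (hc : CyclicP p G) (hpG : p ∣ Nat.card G) (R : Sylow p G)
include h hc hpG

theorem eq_bot_of_le_normalizer {W : Subgroup G} (hW : W ≤ 𝐍 R)
    (hRW : (R : Subgroup G) ≤ normalizer (W : Set G)) (hp' : ¬ p ∣ Nat.card W) : W = ⊥ := by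
  obtain ⟨x, hx, hx1⟩ := ((R : Subgroup G).ne_bot_iff_exists_ne_one.mp
    (R.ne_bot_of_dvd_card hpG)) |> fun ⟨⟨x, hx⟩, h1⟩ =>
      (⟨x, hx, fun e => h1 (Subtype.ext e)⟩ : ∃ x, x ∈ (R : Subgroup G) ∧ x ≠ 1)
  have hd : W ⊓ (R : Subgroup G) = ⊥ :=
    inf_comm W (R : Subgroup G) ▸ Components.inf_eq_bot_of_pGroup_coprime R.2
      (hp.out.coprime_iff_not_dvd.mpr hp').symm
  have h1 := commutes_of_disjoint_normalized hd hRW hW
  have h2 : W ≤ (R : Subgroup G) := by
    rw [← centralizer_eq_sylow h hc hpG R hx hx1]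
    exact fun w hw => mem_centralizer_singleton_iff.mpr (mem_centralizer_iff.mp (h1 hw) x hx).symm
  rwa [inf_eq_left.mpr h2] at hd

theorem exists_decomp {M : Subgroup G} (hM : M ≠ ⊤) (hR : (R : Subgroup G) ≤ M) {m : G}
    (hm : m ∈ M) : ∃ a ∈ coreOf p M, ∃ n ∈ M ⊓ 𝐍 R, m = a * n := by
  haveI := h.proper M hM
  obtain ⟨a, ha, n, hn, he⟩ := exists_core_mul (hc.subgroup M) (R.subtype hR) ⟨m, hm⟩
  refine ⟨a, ⟨a, ha, rfl⟩, n, ⟨n.2, ?_⟩, congrArg Subtype.val he⟩
  have h1 := le_normalizer_map M.subtype ⟨n, hn, rfl⟩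
  rwa [Sylow.coe_subtype, map_subgroupOf_eq_of_le hR] at h1

omit h hc hpG in
theorem mem_normalizer_coreOf {M : Subgroup G} {g : G} (hg : g ∈ M) :
    g ∈ normalizer (coreOf p M : Set G) := mem_normalizer_primeCore hg

omit h hc hpG in
theorem not_dvd_coreOf {M : Subgroup G} : ¬ p ∣ Nat.card (coreOf p M) := not_dvd_card_primeCore M

theorem coreOf_inf_normalizer {M : Subgroup G} (hR : (R : Subgroup G) ≤ M) :
    coreOf p M ⊓ 𝐍 R = ⊥ :=
  eq_bot_of_le_normalizer h hc hpG R inf_le_right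
    (fun r hr => inf_normalizer_le_normalizer_inf
      ⟨mem_normalizer_coreOf (hR hr), le_normalizer (le_normalizer hr)⟩)
    (fun e => not_dvd_coreOf (e.trans (card_dvd_of_le inf_le_left)))

theorem le_coreOf {M W : Subgroup G} (hM : M ≠ ⊤) (hR : (R : Subgroup G) ≤ M) (hW : W ≤ M)
    (hRW : (R : Subgroup G) ≤ normalizer (W : Set G)) (hp' : ¬ p ∣ Nat.card W) :
    W ≤ coreOf p M := by
  set K := coreOf p M with hK
  have hWK : W ≤ normalizer (K : Set G) := fun w hw => mem_normalizer_coreOf (hW hw)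
  have hnd : ¬ p ∣ Nat.card (K ⊔ W : Subgroup G) := fun e => by
    rcases hp.out.dvd_mul.mp (e.trans (Components.Signalizer.card_sup_dvd_mul hWK)) with e | e
    · exact not_dvd_coreOf e
    · exact hp' e
  have hbot : (K ⊔ W) ⊓ 𝐍 R = ⊥ := eq_bot_of_le_normalizer h hc hpG R inf_le_right
    (fun r hr => inf_normalizer_le_normalizer_inf
      ⟨(normalizer_inf_normalizer_le_normalizer_sup K W)
        ⟨mem_normalizer_coreOf (hR hr), hRW hr⟩, le_normalizer (le_normalizer hr)⟩)
    (fun e => hnd (e.trans (card_dvd_of_le inf_le_left)))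
  intro w hw
  obtain ⟨a, ha, n, hn, he⟩ := exists_decomp h hc hpG R hM hR (hW hw)
  have hn1 : n ∈ (K ⊔ W) ⊓ 𝐍 R := by
    refine ⟨?_, hn.2⟩
    rw [show n = a⁻¹ * w by rw [he, inv_mul_cancel_left]]
    exact mul_mem (mem_sup_left (K.inv_mem ha)) (mem_sup_right hw)
  rw [hbot, mem_bot] at hn1
  rw [he, hn1, mul_one]
  exact ha

theorem coreOf_ne_bot {M : Subgroup G} (hM : IsOver R M) : coreOf p M ≠ ⊥ := fun e => by
  have hle : M ≤ 𝐍 R := fun m hm => by
    obtain ⟨a, ha, n, hn, he⟩ := exists_decomp h hc hpG R hM.1.1 hM.2.1 hm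
    rw [e, mem_bot] at ha
    rw [he, ha, one_mul]
    exact hn.2
  rcases hle.eq_or_lt with e' | e'
  · exact hM.2.2 e'
  · exact h.normalizer_ne_top (R.ne_bot_of_dvd_card hpG) (h.isPGroup_ne_top R.2) (hM.1.2 _ e')

/-- `O_{p'}(M)` is nilpotent: it has a fixed-point-free automorphism of order `p`. -/
theorem isNilpotent_coreOf {M : Subgroup G} (hM : IsOver R M) :
    Group.IsNilpotent (coreOf p M) := by
  obtain ⟨⟨x, hxR⟩, hx⟩ := exists_prime_orderOf_dvd_card' (G := (R : Subgroup G)) p (by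
    obtain ⟨k, hk⟩ := R.2.exists_card_eq
    rw [hk]
    refine dvd_pow_self p fun e => R.ne_bot_of_dvd_card hpG (card_eq_one.mp ?_)
    rw [hk, e, pow_zero])
  rw [Subgroup.orderOf_mk] at hx
  have hx1 : x ≠ 1 := fun e => hp.out.ne_one (by rw [← hx, e, orderOf_one])
  set φ : Cfsg.pPrimeCore p M ≃* Cfsg.pPrimeCore p M :=
    MulAut.conjNormal (⟨x, hM.2.1 hxR⟩ : M) with hφ
  have hcomm : ∀ c : Cfsg.pPrimeCore p M, φ c = c → c = 1 := fun c hc' => by
    have h1 : x * ((c : M) : G) * x⁻¹ = ((c : M) : G) := by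
      simpa [hφ] using congrArg (fun z : Cfsg.pPrimeCore p M => ((z : M) : G)) hc'
    have h2 : ((c : M) : G) ∈ coreOf p M ⊓ 𝐍 R := by
      refine ⟨⟨c, c.2, rfl⟩, le_normalizer ?_⟩
      rw [← centralizer_eq_sylow h hc hpG R hxR hx1]
      exact mem_centralizer_singleton_iff.mpr (mul_inv_eq_iff_eq_mul.mp h1).symm
    rw [coreOf_inf_normalizer h hc hpG R hM.2.1, mem_bot] at h2
    exact Subtype.ext (Subtype.ext h2)
  have hne : φ ≠ 1 := fun e => coreOf_ne_bot h hc hpG R hM (by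
    rw [eq_bot_iff_forall]
    rintro _ ⟨c, hc', rfl⟩
    have h1 : c = 1 := congrArg Subtype.val (hcomm ⟨c, hc'⟩ (by rw [e]; rfl))
    rw [h1, map_one])
  have hord : orderOf φ = p := by
    refine orderOf_eq_prime ?_ hne
    rw [hφ, ← map_pow, show (⟨x, hM.2.1 hxR⟩ : M) ^ p = 1 from
      Subtype.ext (by simp [← hx, pow_orderOf_eq_one]), map_one]
  haveI := Cfsg.Agent.S0033.result φ hcomm p hp.out hord
  exact Group.nilpotent_of_mulEquiv
    ((Cfsg.pPrimeCore p M).equivMapOfInjective M.subtype M.subtype_injective)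

theorem eq_of_core_inf_ne_bot {M₁ M₂ : Subgroup G} (h₁ : IsOver R M₁) (h₂ : IsOver R M₂)
    (hne : coreOf p M₁ ⊓ coreOf p M₂ ≠ ⊥) : M₁ = M₂ := by
  induction hn : Nat.card G - Nat.card (coreOf p M₁ ⊓ coreOf p M₂ : Subgroup G)
    using Nat.strong_induction_on generalizing M₁ M₂ with
  | _ n ih =>
  set D := coreOf p M₁ ⊓ coreOf p M₂ with hD
  have hRD : (R : Subgroup G) ≤ normalizer (D : Set G) := fun r hr =>
    inf_normalizer_le_normalizer_inf
      ⟨mem_normalizer_coreOf (h₁.2.1 hr), mem_normalizer_coreOf (h₂.2.1 hr)⟩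
  have hDp : ¬ p ∣ Nat.card D := fun e => not_dvd_coreOf (e.trans (card_dvd_of_le inf_le_left))
  have hDtop : D ≠ ⊤ := fun e => h₁.1.1 (top_le_iff.mp (e ▸ inf_le_left.trans (map_subtype_le _)))
  obtain ⟨M₃, hc₃, hle₃⟩ := h.exists_coatom (h.proper _ (h.normalizer_ne_top hne hDtop))
  have h₃ : IsOver R M₃ := ⟨hc₃, hRD.trans hle₃, fun e => hne
    (eq_bot_of_le_normalizer h hc hpG R ((le_normalizer.trans hle₃).trans e.le) hRD hDp)⟩
  -- the step
  have step : ∀ M : Subgroup G, IsOver R M → D ≤ coreOf p M →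
      (D < coreOf p M → M = M₃) := by
    intro M hM hDM hlt
    haveI := isNilpotent_coreOf h hc hpG R hM
    have hgt : D < coreOf p M ⊓ normalizer (D : Set G) := by
      refine lt_of_le_of_ne (le_inf hDM le_normalizer) fun e => ?_
      have hnc := Group.normalizerCondition_of_isNilpotent (G := coreOf p M) (D.subgroupOf (coreOf p M))
        (lt_top_iff_ne_top.mpr fun e' => hlt.not_ge (subgroupOf_eq_top.mp e'))
      refine hnc.not_ge fun y hy => ?_
      rw [← subgroupOf_normalizer_eq hDM] at hy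
      rw [mem_subgroupOf, e]
      exact ⟨y.2, hy⟩
    have hle : coreOf p M ⊓ normalizer (D : Set G) ≤ coreOf p M ⊓ coreOf p M₃ :=
      le_inf inf_le_left (le_coreOf h hc hpG R hc₃.1 h₃.2.1 (inf_le_right.trans hle₃)
        (fun r hr => inf_normalizer_le_normalizer_inf
          ⟨mem_normalizer_coreOf (hM.2.1 hr), le_normalizer (hRD hr)⟩)
        (fun e => not_dvd_coreOf (e.trans (card_dvd_of_le inf_le_left))))
    have hlt' : D < coreOf p M ⊓ coreOf p M₃ := hgt.trans_le hle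
    refine ih _ ?_ hM h₃ (fun e => ?_) rfl
    · have h5 : Nat.card D < Nat.card (coreOf p M ⊓ coreOf p M₃ : Subgroup G) := by
        rcases lt_or_ge (Nat.card D) (Nat.card (coreOf p M ⊓ coreOf p M₃ : Subgroup G)) with e | e
        · exact e
        · exact absurd (Subgroup.eq_of_le_of_card_ge hlt'.le e) hlt'.ne
      have h6 := card_le_card_group (coreOf p M ⊓ coreOf p M₃)
      omega
    · exact not_lt_bot (e ▸ hlt')
  have hfix : ∀ M M' : Subgroup G, IsOver R M → IsOver R M' → D = coreOf p M →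
      D ≤ coreOf p M' → D = coreOf p M' := by
    intro M M' hM hM' he hle
    by_contra hne'
    have hlt : D < coreOf p M' := lt_of_le_of_ne hle hne'
    have hN : normalizer (D : Set G) = M := by
      have hMN : M ≤ normalizer (D : Set G) := fun m hm => by
        rw [he]; exact mem_normalizer_coreOf hm
      exact ((hM.1.le_iff).mp hMN).resolve_left (h.normalizer_ne_top hne hDtop)
    haveI := isNilpotent_coreOf h hc hpG R hM'
    have hnc := Group.normalizerCondition_of_isNilpotent (G := coreOf p M') (D.subgroupOf (coreOf p M'))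
      (lt_top_iff_ne_top.mpr fun e' => hlt.not_ge (subgroupOf_eq_top.mp e'))
    refine hnc.not_ge fun y hy => ?_
    rw [← subgroupOf_normalizer_eq hle] at hy
    rw [mem_subgroupOf, he]
    refine le_coreOf h hc hpG R hM.1.1 hM.2.1 (W := coreOf p M' ⊓ normalizer (D : Set G))
      (inf_le_right.trans hN.le) (fun r hr => inf_normalizer_le_normalizer_inf
        ⟨mem_normalizer_coreOf (hM'.2.1 hr), le_normalizer (hRD hr)⟩)
      (fun e => not_dvd_coreOf (e.trans (card_dvd_of_le inf_le_left))) ⟨y.2, hy⟩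
  by_cases he₁ : D = coreOf p M₁
  · have he₂ := hfix M₁ M₂ h₁ h₂ he₁ inf_le_right
    have hN : ∀ M, IsOver R M → D = coreOf p M → M = normalizer (D : Set G) := fun M hM he => by
      have hMN : M ≤ normalizer (D : Set G) := fun m hm => by
        rw [he]; exact mem_normalizer_coreOf hm
      exact (((hM.1.le_iff).mp hMN).resolve_left (h.normalizer_ne_top hne hDtop)).symm
    rw [hN _ h₁ he₁, hN _ h₂ he₂]
  · by_cases he₂ : D = coreOf p M₂
    · exact absurd (hfix M₂ M₁ h₂ h₁ he₂ inf_le_left) he₁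
    · rw [step M₁ h₁ inf_le_left (lt_of_le_of_ne inf_le_left he₁),
        step M₂ h₂ inf_le_right (lt_of_le_of_ne inf_le_right he₂)]

theorem inf_le_normalizer {M₁ M₂ : Subgroup G} (h₁ : IsOver R M₁) (h₂ : IsOver R M₂)
    (hne : M₁ ≠ M₂) : M₁ ⊓ M₂ ≤ 𝐍 R := by
  intro m hm
  have hH : M₁ ⊓ M₂ ≠ ⊤ := fun e => h₁.1.1 (top_le_iff.mp (e ▸ inf_le_left))
  have hR : (R : Subgroup G) ≤ M₁ ⊓ M₂ := le_inf h₁.2.1 h₂.2.1
  obtain ⟨a, ha, n, hn, he⟩ := exists_decomp h hc hpG R hH hR hm
  have hRW : (R : Subgroup G) ≤ normalizer (coreOf p (M₁ ⊓ M₂) : Set G) := fun r hr =>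
    mem_normalizer_coreOf (hR hr)
  have h1 : coreOf p (M₁ ⊓ M₂) ≤ coreOf p M₁ ⊓ coreOf p M₂ :=
    le_inf (le_coreOf h hc hpG R h₁.1.1 h₁.2.1 ((map_subtype_le _).trans inf_le_left) hRW
        not_dvd_coreOf)
      (le_coreOf h hc hpG R h₂.1.1 h₂.2.1 ((map_subtype_le _).trans inf_le_right) hRW
        not_dvd_coreOf)
  have h2 : coreOf p M₁ ⊓ coreOf p M₂ = ⊥ := by
    by_contra h3
    exact hne (eq_of_core_inf_ne_bot h hc hpG R h₁ h₂ h3)
  have ha1 := h1 ha
  rw [h2, mem_bot] at ha1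
  rw [he, ha1, one_mul]
  exact hn.2

theorem normalizer_le {M : Subgroup G} (hM : IsOver R M) : 𝐍 R ≤ M := by
  intro n hn
  obtain ⟨⟨k, hk⟩, hk1⟩ := (coreOf p M).ne_bot_iff_exists_ne_one.mp (coreOf_ne_bot h hc hpG R hM)
  have hkM : k ∈ M := map_subtype_le _ hk
  have hkN : k ∉ 𝐍 R := fun e => hk1 (Subtype.ext (by
    have : k ∈ coreOf p M ⊓ 𝐍 R := ⟨hk, e⟩
    rwa [coreOf_inf_normalizer h hc hpG R hM.2.1, mem_bot] at this))
  haveI := hc _ R.2
  obtain ⟨⟨x, hxR⟩, hgen⟩ := IsCyclic.exists_generator (α := (R : Subgroup G))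
  obtain ⟨M₂, hc₂, hle₂⟩ := h.exists_coatom (h.pair x (k * n))
  have hR₂ : (R : Subgroup G) ≤ M₂ := fun r hr => by
    obtain ⟨i, hi⟩ := mem_zpowers_iff.mp (hgen ⟨r, hr⟩)
    have : x ^ i = r := by simpa using congrArg Subtype.val hi
    rw [← this]
    exact zpow_mem (hle₂ (subset_closure (Set.mem_insert _ _))) i
  have hkn : k * n ∈ M₂ := hle₂ (subset_closure (by simp))
  have hne₂ : M₂ ≠ 𝐍 R := fun e => hkN (by
    have h1 : k * n ∈ 𝐍 R := e ▸ hkn
    have := mul_mem h1 ((𝐍 R).inv_mem hn)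
    rwa [mul_inv_cancel_right] at this)
  by_cases he : M₂ = M
  · have := mul_mem (M.inv_mem hkM) (he ▸ hkn)
    rwa [inv_mul_cancel_left] at this
  exfalso
  -- the conjugate of `R` by `k` lies in both maximal subgroups, hence in `N`
  have hconj : ∀ r ∈ (R : Subgroup G), k * r * k⁻¹ ∈ 𝐍 R := fun r hr => by
    refine inf_le_normalizer h hc hpG R hM ⟨hc₂, hR₂, hne₂⟩ (Ne.symm he)
      ⟨mul_mem (mul_mem hkM (hM.2.1 hr)) (M.inv_mem hkM), ?_⟩
    have h1 : n⁻¹ * r * n ∈ (R : Subgroup G) := by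
      simpa using (mem_normalizer_iff.mp ((𝐍 R).inv_mem hn) r).mp hr
    have h2 := mul_mem (mul_mem hkn (hR₂ h1)) (M₂.inv_mem hkn)
    rwa [show k * n * (n⁻¹ * r * n) * (k * n)⁻¹ = k * r * k⁻¹ by group] at h2
  refine hkN (Sylow.smul_eq_iff_mem_normalizer.mp ?_)
  have hle : ((k • R : Sylow p G) : Subgroup G) ≤ 𝐍 R := by
    rw [Sylow.coe_subgroup_smul]
    rintro _ ⟨r, hr, rfl⟩
    exact hconj r hr
  have := Sylow.unique_of_normal (R.subtype le_normalizer)
    (by rw [Sylow.coe_subtype]; exact Subgroup.normal_in_normalizer)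
  have h3 : (k • R).subtype hle = R.subtype le_normalizer := Subsingleton.elim _ _
  exact Sylow.subtype_injective h3

omit h hc hpG in
theorem mulAut_isCyclic {x : G} (hx : orderOf x = p) : IsCyclic (MulAut (zpowers x)) := by
  have hcard : Nat.card (zpowers x) = p := by rw [Nat.card_zpowers, hx]
  have e := IsCyclic.mulAutMulEquiv (zpowers x)
  rw [hcard] at e
  exact isCyclic_of_surjective _ e.symm.surjective

/-- No Sylow subgroup of a minimal counterexample is cyclic. -/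
theorem false_of_cyclicP : False := by
  obtain ⟨R⟩ : Nonempty (Sylow p G) := inferInstance
  set N := normalizer ((R : Subgroup G) : Set G) with hN
  haveI := hc _ R.2
  obtain ⟨⟨x, hxR⟩, hgen⟩ := IsCyclic.exists_generator (α := (R : Subgroup G))
  obtain ⟨g, hg⟩ : ∃ g, g ∉ N := by
    by_contra hall
    push Not at hall
    exact h.normalizer_ne_top (R.ne_bot_of_dvd_card hpG) (h.isPGroup_ne_top R.2)
      (eq_top_iff.mpr fun g _ => hall g)
  obtain ⟨M, hcM, hleM⟩ := h.exists_coatom (h.pair x g)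
  have hM : IsOver R M := ⟨hcM, fun r hr => by
      obtain ⟨i, hi⟩ := mem_zpowers_iff.mp (hgen ⟨r, hr⟩)
      have : x ^ i = r := by simpa using congrArg Subtype.val hi
      rw [← this]
      exact zpow_mem (hleM (subset_closure (Set.mem_insert _ _))) i,
    fun e => hg (e.le (hleM (subset_closure (by simp))))⟩
  haveI := isNilpotent_coreOf h hc hpG R hM
  set K := coreOf p M with hK
  haveI : Nontrivial K := (nontrivial_iff_ne_bot K).mpr (coreOf_ne_bot h hc hpG R hM)
  haveI : Nontrivial (center K) := (nontrivial_iff_ne_bot _).mpr (Group.IsNilpotent.center_ne_bot K)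
  obtain ⟨q, hq, hqZ⟩ := Nat.exists_prime_and_dvd
    (Finite.one_lt_card (α := center K)).ne'
  haveI : Fact q.Prime := ⟨hq⟩
  obtain ⟨⟨⟨v, hvK⟩, hvc⟩, hv⟩ := exists_prime_orderOf_dvd_card' (G := center K) q hqZ
  rw [Subgroup.orderOf_mk, Subgroup.orderOf_mk] at hv
  have hqp : q ≠ p := by
    rintro rfl
    exact not_dvd_coreOf (hv ▸ Nat.card_zpowers v ▸ card_dvd_of_le (zpowers_le.mpr hvK))
  let V : Subgroup G :=
    { carrier := {w | w ∈ K ∧ (∀ a ∈ K, a * w = w * a) ∧ w ^ q = 1}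
      one_mem' := ⟨one_mem K, fun a _ => by simp, one_pow q⟩
      mul_mem' := fun {a b} ha hb => ⟨mul_mem ha.1 hb.1, fun c hc' => by
          rw [← mul_assoc, ha.2.1 c hc', mul_assoc, hb.2.1 c hc', ← mul_assoc],
        by rw [(show Commute a b from hb.2.1 a ha.1).mul_pow, ha.2.2, hb.2.2, one_mul]⟩
      inv_mem' := fun {a} ha => ⟨inv_mem ha.1, fun c hc' =>
          (show Commute c a from ha.2.1 c hc').inv_right,
        by rw [inv_pow, ha.2.2, inv_one]⟩ }
  have hvV : v ∈ V := ⟨hvK, fun a ha => congrArg Subtype.val (mem_center_iff.mp hvc ⟨a, ha⟩),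
    hv ▸ pow_orderOf_eq_one v⟩
  have hMV : M ≤ normalizer (V : Set G) := by
    have hone : ∀ m ∈ M, ∀ w ∈ V, m * w * m⁻¹ ∈ V := fun m hm w hw =>
      ⟨(mem_normalizer_iff.mp (mem_normalizer_coreOf hm) w).mp hw.1, fun a ha => by
          have h1 := hw.2.1 (m⁻¹ * a * m) (by
            simpa using (mem_normalizer_iff.mp (mem_normalizer_coreOf (M.inv_mem hm)) a).mp ha)
          calc a * (m * w * m⁻¹) = m * ((m⁻¹ * a * m) * w) * m⁻¹ := by group
            _ = m * (w * (m⁻¹ * a * m)) * m⁻¹ := by rw [h1]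
            _ = m * w * m⁻¹ * a := by group,
        by rw [conj_pow, hw.2.2, mul_one, mul_inv_cancel]⟩
    intro m hm
    refine mem_normalizer_iff.mpr fun w => ⟨hone m hm w, fun hw => ?_⟩
    have := hone m⁻¹ (M.inv_mem hm) _ hw
    simpa [mul_assoc] using this
  letI : CommGroup V := { V.toGroup with mul_comm := fun a b => Subtype.ext (b.2.2.1 a a.2.1) }
  let φ : M →* MulAut V := (Subgroup.normalizerMonoidHom V).comp (inclusion hMV)
  have hφ : ∀ (m : M) (w : V), ((φ m w : V) : G) = (m : G) * w * (m : G)⁻¹ := fun m w => rfl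
  -- `x₀` of order `p`, and `i` generating a Sylow `q`-subgroup of `N`
  obtain ⟨⟨x₀, hx₀R⟩, hx₀⟩ := exists_prime_orderOf_dvd_card' (G := (R : Subgroup G)) p (by
    obtain ⟨k, hk⟩ := R.2.exists_card_eq
    rw [hk]
    refine dvd_pow_self p fun e => R.ne_bot_of_dvd_card hpG (card_eq_one.mp ?_)
    rw [hk, e, pow_zero])
  rw [Subgroup.orderOf_mk] at hx₀
  have hx₁ : x₀ ≠ 1 := fun e => hp.out.ne_one (by rw [← hx₀, e, orderOf_one])
  set Z := zpowers x₀ with hZ
  have hZN : N ≤ normalizer (Z : Set G) := by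
    have hone : ∀ m ∈ N, m * x₀ * m⁻¹ ∈ Z := fun m hm => by
      have hm' : m * x₀ * m⁻¹ ∈ (R : Subgroup G) := (mem_normalizer_iff.mp hm x₀).mp hx₀R
      have h1 := mem_zpowers_of_orderOf (p := p) (y := (⟨m * x₀ * m⁻¹, hm'⟩ : (R : Subgroup G)))
        (z := ⟨x₀, hx₀R⟩) (by rw [Subgroup.orderOf_mk, hx₀]) (Subtype.ext (by
          simp [conj_pow, ← hx₀, pow_orderOf_eq_one]))
      obtain ⟨j, hj⟩ := mem_zpowers_iff.mp h1
      exact mem_zpowers_iff.mpr ⟨j, by simpa using congrArg Subtype.val hj⟩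
    intro m hm
    refine mem_normalizer_iff_map_conj_eq.mpr (Subgroup.eq_of_le_of_card_ge ?_
      (card_map_of_injective (MulAut.conj m).injective).ge)
    rw [hZ, MonoidHom.map_zpowers, zpowers_le]
    exact hone m hm
  let ψ : N →* MulAut Z := (Subgroup.normalizerMonoidHom Z).comp (inclusion hZN)
  have hψ : ∀ t : N, ψ t = 1 → (t : G) ∈ (R : Subgroup G) := fun t ht => by
    have h1 : (inclusion hZN t) ∈ (Subgroup.normalizerMonoidHom Z).ker := MonoidHom.mem_ker.mpr ht
    rw [normalizerMonoidHom_ker, mem_subgroupOf] at h1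
    rw [← centralizer_eq_sylow h hc hpG R hx₀R hx₁]
    exact mem_centralizer_singleton_iff.mpr (mem_centralizer_iff.mp h1 x₀ (mem_zpowers x₀)).symm
  obtain ⟨T⟩ : Nonempty (Sylow q N) := inferInstance
  have hTR : ∀ t : T, (((t : N) : G)) ∈ (R : Subgroup G) → t = 1 := fun t ht => by
    obtain ⟨a, ha⟩ := T.2 t
    obtain ⟨b, hb⟩ := R.2 ⟨_, ht⟩
    refine Subtype.ext (Subtype.ext (eq_one_of_orderOf_dvd (p := p) (k := b)
      (by simpa using congrArg Subtype.val hb) fun hd => ?_))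
    have h1 : ((t : N) : G) ^ q ^ a = 1 := by
      simpa using congrArg (fun z : T => ((z : N) : G)) ha
    exact hqp ((Nat.prime_dvd_prime_iff_eq hp.out hq).mp
      (hp.out.dvd_of_dvd_pow (hd.trans (orderOf_dvd_of_pow_eq_one h1)))).symm
  haveI : IsCyclic T := by
    haveI := mulAut_isCyclic (p := p) hx₀
    refine isCyclic_of_injective (ψ.comp (T : Subgroup N).subtype) ?_
    rw [injective_iff_map_eq_one]
    exact fun t ht => hTR t (hψ t ht)
  obtain ⟨t₀, ht₀⟩ := IsCyclic.exists_generator (α := T)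
  set n := orderOf t₀ with hn
  have hnT : n = Nat.card T := orderOf_eq_card_of_forall_mem_zpowers ht₀
  have hn0 : 0 < n := orderOf_pos t₀
  set i : M := ⟨((t₀ : N) : G), normalizer_le h hc hpG R hM (t₀ : N).2⟩ with hi
  have hin : i ^ n = 1 := Subtype.ext (by
    show (((t₀ ^ n : T) : N) : G) = 1
    rw [hn, pow_orderOf_eq_one]; rfl)
  set xM : M := ⟨x₀, hM.2.1 hx₀R⟩ with hxM
  obtain ⟨w, hw⟩ := norm_ne_one φ (p := p) (x := xM) (i := i) hn0
    (Subtype.ext (by simp [hxM, ← hx₀, pow_orderOf_eq_one]))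
    (fun u hu => by
      have h1 : x₀ * (u : G) * x₀⁻¹ = (u : G) := (hφ xM u).symm.trans (congrArg Subtype.val hu)
      have h2 : (u : G) ∈ K ⊓ N := by
        refine ⟨u.2.1, le_normalizer ?_⟩
        rw [← centralizer_eq_sylow h hc hpG R hx₀R hx₁]
        exact mem_centralizer_singleton_iff.mpr (mul_inv_eq_iff_eq_mul.mp h1).symm
      rw [hK, hN, coreOf_inf_normalizer h hc hpG R hM.2.1, mem_bot] at h2
      exact Subtype.ext h2)
    (fun k hk0 hkn => by
      have hkN : ((t₀ : N) : G) ^ k ∈ N := pow_mem (t₀ : N).2 k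
      have hmem : ((t₀ : N) : G) ^ k * x₀ * (((t₀ : N) : G) ^ k)⁻¹ ∈ Z :=
        (mem_normalizer_iff.mp (hZN hkN) x₀).mp (mem_zpowers x₀)
      obtain ⟨c, hc'⟩ := mem_powers_iff_mem_zpowers.mpr hmem
      have hc'' : ((t₀ : N) : G) ^ k * x₀ = x₀ ^ c * ((t₀ : N) : G) ^ k := by
        rw [show x₀ ^ c = _ from hc', inv_mul_cancel_right]
      refine ⟨c, fun hc1 => ?_, Subtype.ext (by simpa [hi, hxM] using hc'')⟩
      have hx1' : x₀ ^ c = x₀ := by
        conv_rhs => rw [← pow_one x₀]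
        rw [pow_eq_pow_iff_modEq, hx₀]
        exact (ZMod.natCast_eq_natCast_iff c 1 p).mp (by simpa using hc1)
      rw [hx1'] at hc''
      have hkR : ((t₀ : N) : G) ^ k ∈ (R : Subgroup G) := by
        rw [← centralizer_eq_sylow h hc hpG R hx₀R hx₁]
        exact mem_centralizer_singleton_iff.mpr hc''
      exact pow_ne_one_of_lt_orderOf hk0.ne' hkn (hTR (t₀ ^ k) (by simpa using hkR)))
    (v := ⟨v, hvV⟩) (fun e => by
      have h1 : v ^ p = 1 := by simpa using congrArg Subtype.val e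
      have h2 := orderOf_dvd_of_pow_eq_one h1
      rw [hv] at h2
      exact hqp ((Nat.prime_dvd_prime_iff_eq hq hp.out).mp h2))
  -- the element `w * i`
  set wM : M := ⟨(w : G), map_subtype_le _ w.2.1⟩ with hwM
  have hpow : ∀ k : ℕ, ((wM * i) ^ k : M).1
      = ((∏ j ∈ Finset.range k, φ (i ^ j) w : V) : G) * ((i ^ k : M) : G) := by
    intro k
    induction k with
    | zero => simp
    | succ k ih =>
      have e1 : (((∏ j ∈ Finset.range k, φ (i ^ j) w) * φ (i ^ k) w : V) : G)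
          = ((∏ j ∈ Finset.range k, φ (i ^ j) w : V) : G) * ((φ (i ^ k) w : V) : G) := rfl
      rw [pow_succ, Subgroup.coe_mul, ih, Finset.prod_range_succ, e1, hφ, hwM]
      simp only [Subgroup.coe_mul, pow_succ]
      group
  set f : V := ∏ j ∈ Finset.range n, φ (i ^ j) w with hf
  set u : G := ((wM * i : M) : G) with hu
  have hun : u ^ n = (f : G) := by
    rw [hu, ← SubgroupClass.coe_pow, hpow n, hin, OneMemClass.coe_one, mul_one, hf]
  have hup : ¬ p ∣ orderOf u := fun hd => by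
    have h1 : u ^ (n * q) = 1 := by rw [pow_mul, hun]; exact f.2.2.2
    rcases hp.out.dvd_mul.mp (hd.trans (orderOf_dvd_of_pow_eq_one h1)) with e | e
    · obtain ⟨a, ha⟩ := T.2.exists_card_eq
      rw [hnT, ha] at e
      exact hqp ((Nat.prime_dvd_prime_iff_eq hp.out hq).mp (hp.out.dvd_of_dvd_pow e)).symm
    · exact hqp ((Nat.prime_dvd_prime_iff_eq hp.out hq).mp e).symm
  have hue := pow_autDeg_eq_one h hc hpG R hup
  -- `[N : R] = n e` with `q` not dividing `e`
  have hcardN : Nat.card (R : Subgroup G) * autDeg R = Nat.card N :=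
    Coprime.card_mul_relIndex' le_normalizer
  have hnd : n ∣ autDeg R := by
    have h1 : n ∣ Nat.card (R : Subgroup G) * autDeg R := by
      rw [hcardN, hnT]; exact card_subgroup_dvd_card _
    refine Nat.Coprime.dvd_of_dvd_mul_left ?_ h1
    obtain ⟨a, ha⟩ := T.2.exists_card_eq
    obtain ⟨b, hb⟩ := R.2.exists_card_eq
    rw [hnT, ha, hb]
    exact Nat.Coprime.pow _ _ ((Nat.coprime_primes hq hp.out).mpr hqp)
  obtain ⟨e, he⟩ := hnd
  have hqe : ¬ q ∣ e := fun hd => by
    have h1 : (T : Subgroup N).index * Nat.card T = Nat.card N := index_mul_card _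
    refine T.not_dvd_index ?_
    have h2 : (T : Subgroup N).index = Nat.card (R : Subgroup G) * e :=
      Nat.eq_of_mul_eq_mul_right (Nat.card_pos (α := T)) (by
        rw [h1, ← hcardN, he, ← hnT]; ring)
    rw [h2]
    exact dvd_mul_of_dvd_right hd _
  have hfe : (f : G) ^ e = 1 := by rw [← hun, ← pow_mul, ← he]; exact hue
  refine hw (Subtype.ext ?_)
  have h3 : orderOf (f : G) ∣ 1 := by
    have h4 := Nat.dvd_gcd (orderOf_dvd_of_pow_eq_one hfe) (orderOf_dvd_of_pow_eq_one f.2.2.2)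
    rwa [Nat.gcd_comm, (hq.coprime_iff_not_dvd.mpr hqe).gcd_eq_one] at h4
  exact orderOf_eq_one_iff.mp (Nat.dvd_one.mp h3)

end CfsgLib.Recognition.TwoGenSolvable
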