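import Cfsg.Agent.Lib.Recognition.TwoGenSolvable.Basic
import Cfsg.Agent.Lib.Classical.SLBasic
import Cfsg.Agent.Lib.Fusion.ZJConstrained
import Cfsg.Agent.S0664

/-!
# `Z(J)` in solvable groups of characteristic `p ≥ 5`
-/

set_option autoImplicit false
set_option linter.style.haveILetI false
set_option linter.unusedSectionVars false

namespace CfsgLib.Recognition.TwoGenSolvable

open Subgroup CfsgLib.Solvable
open scoped Pointwise MatrixGroups

variable {p : ℕ} [hp : Fact p.Prime]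

theorem not_isSolvable_sl_two (hp5 : 5 ≤ p) : ¬ Group.IsSolvable SL(2, ZMod p) := by
  have hnat : ∀ m : ℕ, 0 < m → m < 5 → (m : ZMod p) ≠ 0 := fun m h0 h5 e =>
    Nat.not_le.mpr (h5.trans_le hp5) (Nat.le_of_dvd h0 ((ZMod.natCast_eq_zero_iff m p).mp e))
  have h2 : (2 : ZMod p) ≠ 0 := by exact_mod_cast hnat 2 (by norm_num) (by norm_num)
  have h3 : (3 : ZMod p) ≠ 0 := by exact_mod_cast hnat 3 (by norm_num) (by norm_num)
  have h4 : (2 : ZMod p) ^ 2 ≠ 1 := fun e => h3 (by linear_combination e)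
  have htop : commutator SL(2, ZMod p) = ⊤ := Classical.sl_subgroup_eq_top _
    fun i j hij c => Matrix.transvection_mem_commutator h2 h4 hij c
  intro hs
  haveI : Nontrivial SL(2, ZMod p) := ⟨⟨Matrix.SpecialLinearGroup.transvection zero_ne_one 1, 1,
    fun e => by
      have := congrArg (fun A : SL(2, ZMod p) => A.1 0 1) e
      simp [Matrix.SpecialLinearGroup.transvection_coe] at this⟩⟩
  exact absurd htop (Group.IsSolvable.commutator_lt_top_of_nontrivial _).ne

open CfsgLib.Fusion.QdSections in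
theorem not_isSolvable_qd (hp5 : 5 ≤ p) : ¬ Group.IsSolvable (Cfsg.qd p) := fun hs => by
  let f : SL(2, ZMod p) →* Cfsg.qd p := MonoidHom.mk' (fun A => ⟨aff A 0, aff_mem A 0⟩)
    fun A B => Subtype.ext (by
      show aff (A * B) 0 = aff A 0 * aff B 0
      rw [aff_mul]
      simp)
  refine not_isSolvable_sl_two hp5 (Group.isSolvable_of_isSolvable_injective (f := f) ?_)
  intro A B e
  have h1 := congrArg (fun M : Cfsg.qd p => (M.1).1) e
  have h2 : (aff A (0 : Fin 2 → ZMod p)).1 = (aff B (0 : Fin 2 → ZMod p)).1 := h1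
  refine Subtype.ext (Matrix.ext fun i j => ?_)
  have h3 := congrFun (congrFun h2 i.castSucc) j.castSucc
  rw [aff_val, aff_val] at h3
  fin_cases i <;> fin_cases j <;> simpa using h3

theorem zj_normal (hp5 : 5 ≤ p) {L : Type*} [Group L] [Finite L] [Group.IsSolvable L]
    (hC : centralizer (Cfsg.pCore p L : Set L) ≤ Cfsg.pCore p L) (S : Sylow p L) :
    (Cfsg.centerThompsonAOf (S : Subgroup L)).Normal := by
  refine Cfsg.Agent.S0664.result (by omega) ?_ hC S
  rintro ⟨K, R, hR, ⟨e⟩⟩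
  haveI := hR
  exact not_isSolvable_qd hp5 (Group.isSolvable_of_surjective (f := e.toMonoidHom) e.surjective)

variable {G : Type*} [Group G] [Finite G]

/-- The Thompson centre of a subgroup, in a form transported along injective homomorphisms. -/
theorem zj_eq (U : Subgroup G) :
    Cfsg.centerThompsonAOf U = Fusion.ZJGeneral.Z (Nat.card G) U :=
  Fusion.ZJBridge.centerThompsonAOf_eq_Z fun _ _ => pow_card_eq_one'

theorem zj_map {H : Type*} [Group H] [Finite H] (f : H →* G) (hf : Function.Injective f)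
    (U : Subgroup H) :
    Cfsg.centerThompsonAOf (U.map f) = (Cfsg.centerThompsonAOf U).map f := by
  rw [zj_eq, Fusion.ZJBridge.centerThompsonAOf_eq_Z (m := Nat.card G) (U := U),
    Fusion.ZJConstrained.Z_map_inj f hf]
  exact fun u _ => hf (by rw [map_pow, map_one]; exact pow_card_eq_one')

theorem zj_ne_bot {U : Subgroup G} (hU : IsPGroup p U) (hne : U ≠ ⊥) :
    Cfsg.centerThompsonAOf U ≠ ⊥ := by
  rw [zj_eq]
  set m := Nat.card G
  obtain ⟨A, hA, hmax⟩ := Set.exists_max_image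
    {A : Subgroup G | A ≤ U ∧ Fusion.ZJGeneral.AbExp m A} (fun A => Nat.card A) (Set.toFinite _)
    ⟨⊥, bot_le, inferInstance, fun a ha => by rw [mem_bot.mp ha, one_pow]⟩
  have hAJ : A ≤ Fusion.ZJGeneral.J m U :=
    Fusion.ZJGeneral.le_J ⟨hA.1, hA.2, fun C hC hC' => hmax C ⟨hC, hC'⟩⟩
  obtain ⟨⟨u, huU⟩, hu1⟩ := U.ne_bot_iff_exists_ne_one.mp hne
  have hJ : Fusion.ZJGeneral.J m U ≠ ⊥ := fun e => by
    have h1 : Nat.card (zpowers u) ≤ Nat.card A := hmax (zpowers u)
      ⟨zpowers_le.mpr huU, inferInstance, fun a _ => pow_card_eq_one'⟩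
    have h2 : A = ⊥ := le_bot_iff.mp (e ▸ hAJ)
    rw [h2, card_bot, Nat.card_zpowers] at h1
    have := orderOf_pos u
    exact hu1 (Subtype.ext (orderOf_eq_one_iff.mp (le_antisymm h1 this)))
  haveI : Nontrivial (Fusion.ZJGeneral.J m U) := (nontrivial_iff_ne_bot _).mpr hJ
  haveI := (hU.to_le (Fusion.ZJGeneral.J_le (m := m) U)).center_nontrivial
  obtain ⟨⟨⟨z, hzJ⟩, hzc⟩, hz1⟩ := exists_ne (1 : center (Fusion.ZJGeneral.J m U))
  intro e
  have h1 : z ∈ Fusion.ZJGeneral.Z m U := ⟨hzJ, mem_centralizer_iff.mpr fun j hj =>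
    congrArg Subtype.val (mem_center_iff.mp hzc ⟨j, hj⟩), pow_card_eq_one'⟩
  rw [e, mem_bot] at h1
  exact hz1 (Subtype.ext (Subtype.ext h1))

theorem zj_le (U : Subgroup G) : Cfsg.centerThompsonAOf U ≤ U := by
  rw [zj_eq]; exact Fusion.ZJGeneral.Z_le U

theorem normalizer_le_normalizer_zj (U : Subgroup G) :
    normalizer (U : Set G) ≤ normalizer (Cfsg.centerThompsonAOf U : Set G) := by
  intro n hn
  have h1 : U.map (MulAut.conj n).toMonoidHom = U := mem_normalizer_iff_map_conj_eq.mp hn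
  refine mem_normalizer_iff_map_conj_eq.mpr ?_
  show (Cfsg.centerThompsonAOf U).map (MulAut.conj n).toMonoidHom = _
  rw [← zj_map _ (MulAut.conj n).injective, h1]

theorem le_normalizer_zj (hp5 : 5 ≤ p) {L : Subgroup G} [Group.IsSolvable L]
    (hC : centralizer (Cfsg.pCore p L : Set L) ≤ Cfsg.pCore p L) (T : Sylow p L) :
    L ≤ normalizer (Cfsg.centerThompsonAOf ((T : Subgroup L).map L.subtype) : Set G) := by
  haveI := zj_normal hp5 hC T
  intro l hl
  rw [zj_map L.subtype L.subtype_injective]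
  refine le_normalizer_map L.subtype ⟨⟨l, hl⟩, ?_, rfl⟩
  rw [normalizer_eq_top]
  trivial

end CfsgLib.Recognition.TwoGenSolvable
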