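import Cfsg.Agent.Lib.Recognition.TwoGenSolvable.CyclicModCore
import Cfsg.Agent.Lib.Recognition.TwoGenSolvable.ThompsonLocal
import Cfsg.Agent.Lib.OddOrder.SylowLocal
import Cfsg.Agent.Lib.Fusion.NormalRankTwo

/-!
# The normaliser of `Z(J(P))` is strongly `p`-embedded in a minimal counterexample, `p ≥ 5`
-/

set_option autoImplicit false
set_option linter.style.haveILetI false
set_option linter.unusedSectionVars false

namespace CfsgLib.Recognition.TwoGenSolvable

open Subgroup CfsgLib.Solvable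
open scoped Pointwise

variable {G : Type*} [Group G] [Finite G] {p : ℕ} [hp : Fact p.Prime]

/-- The normaliser of `Z(J(P))`. -/
def phi (P : Sylow p G) : Subgroup G :=
  normalizer (Cfsg.centerThompsonAOf (P : Subgroup G) : Set G)

theorem le_phi (P : Sylow p G) : (P : Subgroup G) ≤ phi P :=
  le_normalizer.trans (normalizer_le_normalizer_zj _)

theorem phi_smul (g : G) (P : Sylow p G) : phi (g • P) = MulAut.conj g • phi P := by
  rw [phi, phi, Sylow.coe_subgroup_smul]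
  show normalizer (Cfsg.centerThompsonAOf ((P : Subgroup G).map (MulAut.conj g).toMonoidHom) : Set G)
    = (normalizer _).map (MulAut.conj g).toMonoidHom
  rw [zj_map _ (MulAut.conj g).injective,
    map_normalizer_eq_of_bijective _ (f := (MulAut.conj g).toMonoidHom) (MulAut.conj g).bijective]

theorem mem_smul_of_mem {M : Subgroup G} {g : G} (hg : g ∈ M) : MulAut.conj g • M = M :=
  mem_normalizer_iff_map_conj_eq.mp (le_normalizer hg)

variable (h : Hyp G) (hp5 : 5 ≤ p)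
include h hp5

theorem exists_sylow_phi {L : Subgroup G} (hL : L ≠ ⊤)
    (hC : centralizer (Cfsg.pCore p L : Set L) ≤ Cfsg.pCore p L) (T : Sylow p L)
    (hT : (T : Subgroup L) ≠ ⊥) :
    ∃ P₁ : Sylow p G, (T : Subgroup L).map L.subtype ≤ (P₁ : Subgroup G) ∧ L ≤ phi P₁ := by
  induction hn : Nat.card G - Nat.card (T : Subgroup L) using Nat.strong_induction_on
    generalizing L with
  | _ n ih =>
  haveI := h.proper L hL
  set T' := (T : Subgroup L).map L.subtype with hT'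
  have hle := le_normalizer_zj hp5 hC T
  have hT'p : IsPGroup p T' := T.2.map _
  have hT'ne : T' ≠ ⊥ := fun e =>
    hT ((Subgroup.map_eq_bot_iff_of_injective _ L.subtype_injective).mp e)
  obtain ⟨P₀, hP₀⟩ := hT'p.exists_le_sylow
  by_cases he : T' = (P₀ : Subgroup G)
  · exact ⟨P₀, hP₀, by rw [phi, ← he]; exact hle⟩
  set X := (P₀ : Subgroup G) ⊓ normalizer (T' : Set G) with hX
  have hgt : T' < X := by
    haveI := P₀.2.isNilpotent
    refine lt_of_le_of_ne (le_inf hP₀ le_normalizer) fun e => ?_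
    have hnc := Group.normalizerCondition_of_isNilpotent (G := (P₀ : Subgroup G))
      (T'.subgroupOf (P₀ : Subgroup G))
      (lt_top_iff_ne_top.mpr fun e' => he (le_antisymm hP₀ (subgroupOf_eq_top.mp e')))
    refine hnc.not_ge fun y hy => ?_
    rw [← subgroupOf_normalizer_eq hP₀] at hy
    rw [mem_subgroupOf, e]
    exact ⟨y.2, hy⟩
  set Z := Cfsg.centerThompsonAOf T' with hZ
  set L' := normalizer (Z : Set G) with hL'
  have hZp : IsPGroup p Z := hT'p.to_le (zj_le _)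
  have hZne : Z ≠ ⊥ := zj_ne_bot hT'p hT'ne
  have hL'top : L' ≠ ⊤ := h.normalizer_ne_top hZne (h.isPGroup_ne_top hZp)
  have hC' := h.centralizer_pCore_local hZp hZne (h.isPGroup_ne_top hZp)
  have hXL' : X ≤ L' := inf_le_right.trans (normalizer_le_normalizer_zj T')
  obtain ⟨T'', hT''⟩ := ((P₀.2.to_le (inf_le_left : X ≤ (P₀ : Subgroup G))).of_equiv
    (subgroupOfEquivOfLe hXL').symm).exists_le_sylow
  have hcard : Nat.card (T : Subgroup L) < Nat.card (T'' : Subgroup L') := by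
    have h1 : Nat.card T' < Nat.card X := by
      rcases lt_or_ge (Nat.card T') (Nat.card X) with e | e
      · exact e
      · exact absurd (Subgroup.eq_of_le_of_card_ge hgt.le e) hgt.ne
    have h2 : Nat.card X ≤ Nat.card (T'' : Subgroup L') := by
      rw [← Nat.card_congr (subgroupOfEquivOfLe hXL').toEquiv]
      exact card_le_of_le hT''
    have h3 : Nat.card T' = Nat.card (T : Subgroup L) :=
      card_map_of_injective L.subtype_injective
    omega
  have hne'' : (T'' : Subgroup L') ≠ ⊥ := fun e => by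
    rw [e, card_bot] at hcard
    have := Nat.card_pos (α := (T : Subgroup L))
    omega
  have hlim : Nat.card (T'' : Subgroup L') ≤ Nat.card G := by
    rw [← card_map_of_injective (K := (T'' : Subgroup L')) L'.subtype_injective]
    exact card_le_card_group _
  obtain ⟨P₁, hP₁, hL₁⟩ := ih _ (by omega) hL'top hC' T'' hne'' rfl
  refine ⟨P₁, ?_, hle.trans hL₁⟩
  intro t ht
  exact hP₁ ⟨⟨t, hXL' (hgt.le ht)⟩, hT'' (mem_subgroupOf.mpr (hgt.le ht)), rfl⟩

/-- Sylow subgroups with non-trivial intersection give the same normaliser. -/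
theorem phi_eq_of_inf_ne_bot (P Q : Sylow p G) (hne : (P : Subgroup G) ⊓ (Q : Subgroup G) ≠ ⊥) :
    phi P = phi Q := by
  induction hn : Nat.card G - Nat.card ((P : Subgroup G) ⊓ (Q : Subgroup G) : Subgroup G)
    using Nat.strong_induction_on generalizing P Q with
  | _ n ih =>
  by_cases hPQ : P = Q
  · rw [hPQ]
  set D := (P : Subgroup G) ⊓ (Q : Subgroup G) with hD
  have hDp : IsPGroup p D := P.2.to_le inf_le_left
  set L := normalizer (D : Set G) with hL
  have hLtop : L ≠ ⊤ := h.normalizer_ne_top hne (h.isPGroup_ne_top hDp)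
  have hC := h.centralizer_pCore_local hDp hne (h.isPGroup_ne_top hDp)
  -- `T ≥ N_S(D)` for `S = P, Q`
  have key : ∀ S : Sylow p G, D ≤ (S : Subgroup G) → D ≠ (S : Subgroup G) →
      ∃ T : Sylow p L, ∀ S₁ : Sylow p G, (T : Subgroup L).map L.subtype ≤ (S₁ : Subgroup G) →
        D < (S : Subgroup G) ⊓ (S₁ : Subgroup G) := by
    intro S hDS hDne
    set X := (S : Subgroup G) ⊓ L with hX
    have hgt : D < X := by
      haveI := S.2.isNilpotent
      refine lt_of_le_of_ne (le_inf hDS le_normalizer) fun e => ?_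
      have hnc := Group.normalizerCondition_of_isNilpotent (G := (S : Subgroup G))
        (D.subgroupOf (S : Subgroup G))
        (lt_top_iff_ne_top.mpr fun e' => hDne (le_antisymm hDS (subgroupOf_eq_top.mp e')))
      refine hnc.not_ge fun y hy => ?_
      rw [← subgroupOf_normalizer_eq hDS] at hy
      rw [mem_subgroupOf, e]
      exact ⟨y.2, hy⟩
    obtain ⟨T, hT⟩ := ((S.2.to_le (inf_le_left : X ≤ (S : Subgroup G))).of_equiv
      (subgroupOfEquivOfLe (inf_le_right : X ≤ L)).symm).exists_le_sylow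
    exact ⟨T, fun S₁ hS₁ => hgt.trans_le (le_inf inf_le_left fun x hx =>
      hS₁ ⟨⟨x, hx.2⟩, hT (mem_subgroupOf.mpr hx), rfl⟩)⟩
  have hP : D ≠ (P : Subgroup G) := fun e => hPQ (Sylow.ext (P.3 Q.2 (inf_eq_left.mp e)).symm)
  have hQ : D ≠ (Q : Subgroup G) := fun e => hPQ (Sylow.ext (Q.3 P.2 (inf_eq_right.mp e)))
  obtain ⟨T₁, hT₁⟩ := key P inf_le_left hP
  obtain ⟨T₂, hT₂⟩ := key Q inf_le_right hQ
  have hT₁ne : (T₁ : Subgroup L) ≠ ⊥ := by
    refine T₁.ne_bot_of_dvd_card ?_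
    obtain ⟨j, hj⟩ := hDp.exists_card_eq
    refine ((dvd_pow_self p (fun e => hne (card_eq_one.mp ?_) : j ≠ 0)).trans hj.symm.dvd).trans
      (card_dvd_of_le le_normalizer)
    rw [hj, e, pow_zero]
  obtain ⟨P₁, hP₁, hL₁⟩ := exists_sylow_phi h hp5 hLtop hC T₁ hT₁ne
  obtain ⟨l, hl⟩ := MulAction.exists_smul_eq L T₁ T₂
  have hP₃ : (T₂ : Subgroup L).map L.subtype ≤ (((l : G) • P₁ : Sylow p G) : Subgroup G) := by
    rw [← hl, Sylow.coe_subgroup_smul, Sylow.coe_subgroup_smul]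
    rintro _ ⟨_, ⟨t, ht, rfl⟩, rfl⟩
    exact ⟨_, hP₁ (mem_map_of_mem _ ht), rfl⟩
  have step : ∀ S S₁ : Sylow p G, D < (S : Subgroup G) ⊓ (S₁ : Subgroup G) → phi S = phi S₁ := by
    intro S S₁ hlt
    refine ih _ ?_ S S₁ (fun e => not_lt_bot (e ▸ hlt)) rfl
    have h1 : Nat.card D < Nat.card ((S : Subgroup G) ⊓ (S₁ : Subgroup G) : Subgroup G) := by
      rcases lt_or_ge (Nat.card D) (Nat.card ((S : Subgroup G) ⊓ (S₁ : Subgroup G) : Subgroup G))
        with e | e
      · exact e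
      · exact absurd (Subgroup.eq_of_le_of_card_ge hlt.le e) hlt.ne
    have h2 := card_le_card_group ((S : Subgroup G) ⊓ (S₁ : Subgroup G))
    omega
  rw [step P P₁ (hT₁ P₁ hP₁), step Q _ (hT₂ _ hP₃), phi_smul,
    mem_smul_of_mem (hL₁ l.2)]

theorem exists_sylow_mem_phi (P : Sylow p G) {X : Subgroup G} (hX : IsPGroup p X)
    (hXM : X ≤ phi P) : ∃ P₁ : Sylow p G, X ≤ (P₁ : Subgroup G) ∧ phi P₁ = phi P := by
  obtain ⟨T, hT⟩ := (hX.of_equiv (subgroupOfEquivOfLe hXM).symm).exists_le_sylow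
  obtain ⟨m, hm⟩ := MulAction.exists_smul_eq (phi P) (P.subtype (le_phi P)) T
  refine ⟨(m : G) • P, fun x hx => ?_, by rw [phi_smul, mem_smul_of_mem m.2]⟩
  have h1 : (⟨x, hXM hx⟩ : phi P) ∈ (T : Subgroup (phi P)) := hT (mem_subgroupOf.mpr hx)
  rw [← hm, Sylow.coe_subgroup_smul, Sylow.coe_subtype] at h1
  obtain ⟨y, hy, hxy⟩ := h1
  rw [Sylow.coe_subgroup_smul]
  exact ⟨y, mem_subgroupOf.mp hy, congrArg Subtype.val hxy⟩

theorem phi_eq_of_mem (P Q : Sylow p G) {x : G} {k : ℕ} (hx : x ^ p ^ k = 1) (hx1 : x ≠ 1)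
    (hP : x ∈ phi P) (hQ : x ∈ phi Q) : phi P = phi Q := by
  obtain ⟨P₁, hP₁, e₁⟩ :=
    exists_sylow_mem_phi h hp5 P (isPGroup_zpowers hx) (zpowers_le.mpr hP)
  obtain ⟨Q₁, hQ₁, e₂⟩ :=
    exists_sylow_mem_phi h hp5 Q (isPGroup_zpowers hx) (zpowers_le.mpr hQ)
  rw [← e₁, ← e₂]
  exact phi_eq_of_inf_ne_bot h hp5 P₁ Q₁ fun e => hx1
    (mem_bot.mp (e ▸ (⟨hP₁ (mem_zpowers x), hQ₁ (mem_zpowers x)⟩ :
      x ∈ (P₁ : Subgroup G) ⊓ (Q₁ : Subgroup G))))

/-- Strong embedding. -/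
theorem mem_phi_of_conj (P : Sylow p G) {x g : G} {k : ℕ} (hx : x ^ p ^ k = 1) (hx1 : x ≠ 1)
    (hxM : x ∈ phi P) (hgx : g * x * g⁻¹ ∈ phi P) : g ∈ phi P := by
  have h1 : phi (g⁻¹ • P) = phi P := by
    refine phi_eq_of_mem h hp5 _ P hx hx1 ?_ hxM
    rw [phi_smul, map_inv, mem_inv_pointwise_smul_iff]
    exact hgx
  have hgP : ((g⁻¹ • P : Sylow p G) : Subgroup G) ≤ phi P := h1 ▸ le_phi _
  obtain ⟨m, hm⟩ := MulAction.exists_smul_eq (phi P) (P.subtype (le_phi P))
    ((g⁻¹ • P).subtype hgP)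
  rw [Sylow.smul_subtype (le_phi P)] at hm
  have h2 : m • P = g⁻¹ • P := Sylow.subtype_injective hm
  have h3 : ((m : G)⁻¹ * g⁻¹) • P = P := by
    rw [mul_smul, ← h2]
    exact inv_smul_smul (m : G) P
  have h4 : (m : G)⁻¹ * g⁻¹ ∈ phi P :=
    normalizer_le_normalizer_zj _ (Sylow.smul_eq_iff_mem_normalizer.mp h3)
  have h5 := (phi P).mul_mem m.2 h4
  rw [mul_inv_cancel_left] at h5
  exact inv_mem_iff.mp h5

theorem centralizer_le_phi (P : Sylow p G) {x : G} {k : ℕ} (hx : x ^ p ^ k = 1) (hx1 : x ≠ 1)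
    (hxM : x ∈ phi P) : centralizer ({x} : Set G) ≤ phi P := fun g hg => by
  refine mem_phi_of_conj h hp5 P hx hx1 hxM ?_
  rw [mem_centralizer_singleton_iff.mp hg, mul_inv_cancel_right]
  exact hxM

theorem phi_ne_top (hpG : p ∣ Nat.card G) (P : Sylow p G) : phi P ≠ ⊤ :=
  h.normalizer_ne_top (zj_ne_bot P.2 (P.ne_bot_of_dvd_card hpG))
    (h.isPGroup_ne_top (P.2.to_le (zj_le _)))

/-- A proper subgroup meeting `phi P` in a non-identity `p`-element, but not contained in it, has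
cyclic Sylow `p`-subgroups. -/
theorem cyclicP_of_not_le (P : Sylow p G) {L : Subgroup G} (hL : L ≠ ⊤) {a : G} {k : ℕ}
    (ha : a ^ p ^ k = 1) (ha1 : a ≠ 1) (haL : a ∈ L) (haM : a ∈ phi P) (hLM : ¬ L ≤ phi P) :
    CyclicP p L := by
  haveI := h.proper L hL
  intro X hX
  by_contra hcyc
  obtain ⟨T, hXT⟩ := hX.exists_le_sylow
  obtain ⟨E, -, -, hE, hEc⟩ := CfsgLib.Fusion.NormalRankTwo.exists_normal_rankTwo (R := X) hX (by omega)
    (S := ⊤) (fun hc => hcyc (isCyclic_of_surjective _ (topEquiv (G := X)).surjective))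
  set B := (E.map X.subtype).map L.subtype with hB
  set T' := (T : Subgroup L).map L.subtype with hT'
  obtain ⟨P', hP'⟩ := (T.2.map L.subtype).exists_le_sylow
  have hBT : B ≤ T' := map_mono ((map_subtype_le E).trans hXT)
  have hBM : B ≤ phi P' := hBT.trans (hP'.trans (le_phi P'))
  have hBE : Cfsg.IsElementaryAbelian p B := by
    haveI := hE.1
    refine ⟨inferInstance, ?_⟩
    rintro _ ⟨_, ⟨e, he, rfl⟩, rfl⟩
    rw [← map_pow, ← map_pow, hE.2 e he, map_one, map_one]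
  have hBc : Nat.card B = p ^ 2 := by
    rw [hB, card_map_of_injective L.subtype_injective, card_map_of_injective X.subtype_injective,
      hEc]
  set W := (Cfsg.pPrimeCore p L).map L.subtype with hW
  have hBne : B ≠ ⊥ := fun e => by
    rw [e, card_bot] at hBc
    exact absurd hBc.symm (Nat.one_lt_pow two_ne_zero hp.out.one_lt).ne'
  have hWM : W ≤ phi P' := by
    refine (Components.Signalizer.le_iSup_centralizer_relIndex hBE le_rfl hBne
      (not_dvd_card_primeCore L)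
      (fun b hb => mem_normalizer_primeCore (map_subtype_le _ (hBT hb)))).trans
      (iSup_le fun ⟨D, hDB, hDp⟩ => inf_le_right.trans ?_)
    have hDne : D ≠ ⊥ := fun e => by
      rw [e, relIndex_bot_left, hBc] at hDp
      exact absurd hDp (ne_of_gt (lt_self_pow₀ hp.out.one_lt (by norm_num)))
    obtain ⟨⟨b, hb⟩, hb1⟩ := D.ne_bot_iff_exists_ne_one.mp hDne
    refine le_trans (fun z hz => ?_) (centralizer_le_phi h hp5 P' (x := b) (k := 1) ?_
      (fun e => hb1 (Subtype.ext e)) (hBM (hDB hb)))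
    · exact mem_centralizer_singleton_iff.mpr (mem_centralizer_iff.mp hz b hb).symm
    · rw [pow_one]; exact hBE.2 b (hDB hb)
  -- Frattini with the Sylow subgroup of `O_{p',p}(L)`
  set K := Cfsg.pPrimeCore p L with hK
  set π := QuotientGroup.mk' K
  set N := (Cfsg.pCore p (L ⧸ K)).comap π with hN
  set P₀ := (T : Subgroup L) ⊓ N with hP₀
  have hTπ : Cfsg.pCore p (L ⧸ K) ≤ (T : Subgroup L).map π := by
    have := Cores.pCore_le_sylow (T.mapSurjective (QuotientGroup.mk'_surjective K))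
    simpa using this
  have hP₀map : P₀.map π = Cfsg.pCore p (L ⧸ K) := by
    refine le_antisymm (map_le_iff_le_comap.mpr inf_le_right) fun y hy => ?_
    obtain ⟨t, ht, rfl⟩ := hTπ hy
    exact ⟨t, ⟨ht, hy⟩, rfl⟩
  have hsup : K ⊔ P₀ = N := by
    rw [hN, ← hP₀map, comap_map_eq, QuotientGroup.ker_mk', sup_comm]
  haveI : (K ⊔ P₀).Normal := by rw [hsup, hN]; infer_instance
  have hfr := CfsgLib.OddOrder.SylowLocal.pPrimeCore_sup_normalizer P₀ (T.2.to_le inf_le_left)
  have hP₀ne : P₀ ≠ ⊥ := fun e => by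
    have h1 := LocalEven.BenderTransitive.centralizer_pCore_le p
      (Components.pPrimeCore_quotient_eq_bot (G := L) (p := p))
    rw [← hP₀map, e, Subgroup.map_bot] at h1
    obtain ⟨⟨b, hb⟩, hb1⟩ := B.ne_bot_iff_exists_ne_one.mp hBne
    obtain ⟨b', hb', hbb⟩ := hBT hb
    have h2 : b' ∈ K := (QuotientGroup.eq_one_iff b').mp (mem_bot.mp (h1 (by
      refine mem_centralizer_iff.mpr fun z hz => ?_
      rw [mem_bot.mp hz, one_mul, mul_one])))
    have h3 : b' ∈ (T : Subgroup L) ⊓ K := ⟨hb', h2⟩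
    rw [Components.inf_eq_bot_of_pGroup_coprime T.2 (Cores.coprime_card_pPrimeCore p), mem_bot]
      at h3
    exact hb1 (Subtype.ext (hbb.symm.trans (by rw [h3]; rfl)))
  obtain ⟨⟨z, hz⟩, hz1⟩ := P₀.ne_bot_iff_exists_ne_one.mp hP₀ne
  obtain ⟨j, hj⟩ := T.2 ⟨z, hz.1⟩
  have hzj : (z : G) ^ p ^ j = 1 := by
    simpa using congrArg (fun t : (T : Subgroup L) => ((t : L) : G)) hj
  have hzM : (z : G) ∈ phi P' := le_phi P' (hP' (mem_map_of_mem _ hz.1))
  have hLM' : L ≤ phi P' := by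
    intro l hl
    obtain ⟨w, hw, n, hn, he⟩ := mem_sup_of_normal_left.mp
      (hfr ▸ mem_top (⟨l, hl⟩ : L) : (⟨l, hl⟩ : L) ∈ K ⊔ normalizer (P₀ : Set L))
    have hn' : (n : G) ∈ phi P' := by
      refine mem_phi_of_conj h hp5 P' hzj
        (fun e => hz1 (Subtype.ext (Subtype.ext e))) hzM ?_
      exact le_phi P' (hP' ⟨_, ((mem_normalizer_iff.mp hn z).mp hz).1, rfl⟩)
    have := congrArg Subtype.val he
    rw [show l = (w : G) * (n : G) from this.symm]
    exact mul_mem (hWM ⟨w, hw, rfl⟩) hn'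
  exact hLM ((phi_eq_of_mem h hp5 P' P ha ha1 (hLM' haL) haM) ▸ hLM')

end CfsgLib.Recognition.TwoGenSolvable
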